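import Cfsg.Agent.Coset.Fi24Schur.Twist
import Cfsg.Agent.Coset.Fi24.Upper

/-!
The twelve letters without the long relator act on three times 306936 points, and the long relator
permutes the three points over the fixed one cyclically.
-/

set_option autoImplicit false
set_option maxRecDepth 100000
set_option Elab.async false
set_option linter.style.haveILetI false

namespace CfsgLib.Coset.Fi24.Schur

open CfsgLib.Coset

section Two

open scoped Classical

variable {K Ω : Type*} [Group K] [Finite K] [Finite Ω] (act₁ act₂ : K →* Equiv.Perm Ω)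

/-- The bound for the orbit of a pair under two actions, from a subgroup fixing it. -/
theorem pair_bound2 {S : Subgroup K} {x y : Ω} (hx : ∀ s ∈ S, act₁ s x = x)
    (hy : ∀ s ∈ S, act₂ s y = y) {m : Nat} (hm : Nat.card K ≤ m * Nat.card S) :
    (Set.range fun k : K => (act₁ k x, act₂ k y)).ncard ≤ m := by
  let f : K ⧸ S → Ω × Ω := Quotient.lift (fun k : K => (act₁ k x, act₂ k y))
    (fun a b hab => by
      have h1 : a⁻¹ * b ∈ S := QuotientGroup.leftRel_apply.mp hab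
      have e : b = a * (a⁻¹ * b) := by simp
      show (act₁ a x, act₂ a y) = (act₁ b x, act₂ b y)
      rw [e, map_mul act₁ a, map_mul act₂ a, Equiv.Perm.mul_apply, Equiv.Perm.mul_apply, hx _ h1,
        hy _ h1])
  have hsub : (Set.range fun k : K => (act₁ k x, act₂ k y)) ⊆ Set.range f := by
    rintro _ ⟨k, rfl⟩; exact ⟨QuotientGroup.mk k, rfl⟩
  refine (Set.ncard_le_ncard hsub (Set.finite_range f)).trans ((Finite.card_range_le f).trans ?_)
  have h1 : Nat.card (K ⧸ S) * Nat.card S = Nat.card K :=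
    (Subgroup.card_eq_card_quotient_mul_card_subgroup _).symm
  exact Nat.le_of_mul_le_mul_right (h1.trans_le hm) Nat.card_pos

theorem exists_equivariant2 {ι : Type*} [Fintype ι] (x y : ι → Ω) (m : ι → Nat)
    (hm : ∀ i, (Set.range fun k : K => (act₁ k (x i), act₂ k (y i))).ncard ≤ m i)
    (hsum : ∑ i, m i ≤ Nat.card Ω) (hcov : ∀ ω, ∃ i, ∃ k, act₁ k (x i) = ω) :
    ∃ f : Ω → Ω, ∀ i, ∀ k, f (act₁ k (x i)) = act₂ k (y i) := by
  set O : ι → Set (Ω × Ω) := fun i => Set.range fun k : K => (act₁ k (x i), act₂ k (y i))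
  set U : Set (Ω × Ω) := ⋃ i, O i
  have hcovU : Prod.fst '' U = Set.univ := by
    refine Set.eq_univ_of_forall fun ω => ?_
    obtain ⟨i, k, rfl⟩ := hcov ω
    exact ⟨_, Set.mem_iUnion.mpr ⟨i, ⟨k, rfl⟩⟩, rfl⟩
  have hUle : U.ncard ≤ ∑ i, (O i).ncard := Set.ncard_iUnion_le_of_fintype O
  have h2 : ∑ i, (O i).ncard ≤ ∑ i, m i := Finset.sum_le_sum fun i _ => hm i
  have hinj : Set.InjOn Prod.fst U := by
    refine (Set.ncard_image_iff (Set.toFinite _)).mp ?_
    refine le_antisymm (Set.ncard_image_le (Set.toFinite _)) ?_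
    rw [hcovU, Set.ncard_univ]; omega
  choose g hg using fun ω => (hcovU.symm ▸ Set.mem_univ ω : ω ∈ Prod.fst '' U)
  refine ⟨fun ω => (g ω).2, fun i k => ?_⟩
  have hmem : (act₁ k (x i), act₂ k (y i)) ∈ U := Set.mem_iUnion.mpr ⟨i, ⟨k, rfl⟩⟩
  exact congrArg Prod.snd (hinj (hg _).1 hmem (hg _).2)

end Two

/-- The elements over `K2`. -/
noncomputable def Kt : Subgroup Bx := K2.comap toA

/-- The twist on `Kt`. -/
noncomputable def φK : ↥Kt →* Bx :=
  MonoidHom.mk' (fun g => φB g.1) fun g h => by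
    have hg : g.1.a ∈ K2 := g.2
    have hh : h.1.a ∈ K2 := h.2
    show φB (g.1 * h.1) = φB g.1 * φB h.1
    simp only [φB, mul_def, eK_mul hg hh]
    congr 1
    ring

/-- The action of `Kt`. -/
noncomputable def act1 : ↥Kt →* Equiv.Perm Om3 := act3.comp Kt.subtype

/-- The twisted action of `Kt`. -/
noncomputable def act2 : ↥Kt →* Equiv.Perm Om3 := act3.comp φK

theorem φB_φB (g : Bx) : φB (φB g) = g := Bx.ext (by simp [φB]) rfl

/-- The representatives. -/
noncomputable def x3 (i : Fin 8) : Om3 := pt3 (MD.X.getD i (0, [])) 0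

/-- Their images under `k`. -/
noncomputable def y3 (i : Fin 8) : Om3 := pt3 (MD.Y.getD i (0, [])) 0

theorem proj3_x3 (i : Fin 8) : proj3 (x3 i) = px i := proj3_pt _ _

section Kernel

/-- The stabilisers fix the twisted pairs. -/
noncomputable def stab3At (i : Nat) : Bool :=
  cond (Nat.beq (SIdx i).length (MD.stab.getD i []).length)
    (allList (fun q : List Nat × (List Nat × List Nat) =>
      cond (eqPt (moveCode (MD.X.getD i (0, [])) q.1) (MD.X.getD i (0, [])) q.2.1)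
        (cond (eqPt (moveCode (MD.Y.getD i (0, [])) q.1) (MD.Y.getD i (0, [])) q.2.2)
          (Nat.beq (Nat.mod (jEq (moveCode (MD.Y.getD i (0, [])) q.1) (MD.Y.getD i (0, [])) q.2.2
            (Nat.add (jEq (moveCode (MD.X.getD i (0, [])) q.1) (MD.X.getD i (0, [])) q.2.1 0)
              (eW q.1.reverse))) 3) 0) false) false)
      ((SIdx i).zip (MD.stab.getD i []))) false

/-- `k` twice. -/
noncomputable def kk3At (i : Nat) : Bool :=
  walk3 MD.X MD.Y [1] (MD.kk.getD i ([], [])).1 (MD.Y.getD i (0, [])).1 (MD.Y.getD i (0, [])).2 0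
    (MD.X.getD i (0, [])) (MD.kk.getD i ([], [])).2 0

/-- `(k l)³` on the representatives. -/
noncomputable def kl3At (i : Nat) : Bool :=
  walk3 MD.X MD.Y [1, 0, 1, 0, 1, 0] (MD.kl.getD i ([], [])).1 (MD.X.getD i (0, [])).1
    (MD.X.getD i (0, [])).2 0 (MD.X.getD i (0, [])) (MD.kl.getD i ([], [])).2 0

/-- `(k a)³` on the representatives. -/
noncomputable def ka3At (i : Nat) (q : Nat × List Nat ×
    (List (Nat × List Nat × List Nat) × List Nat) × (Nat × List Nat × List Nat)) : Bool :=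
  walk3 MD.X MD.Y [1, 2, 1, 2, 1, 2] q.2.2.1.1 (MD.X.getD i (0, [])).1
    ((MD.X.getD i (0, [])).2 ++ (expW gK q.2.1).reverse) 0
    ((MD.X.getD i (0, [])).1, (MD.X.getD i (0, [])).2 ++ (expW gK q.2.1).reverse) q.2.2.1.2 0

/-- The long relator over the fixed point. -/
noncomputable def z3At (j : Nat) : Bool :=
  walk3 MD.X MD.Y zword (MD.u.getD 0 ([], [])).1 0 [] j (0, []) (MD.u.getD 0 ([], [])).2
    (Nat.mod (Nat.add j 1) 3)

end Kernel

theorem stab3_ok : allBelow 3 8 stab3At = true := by decide +kernel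

theorem kk3_ok : allBelow 3 8 kk3At = true := by decide +kernel

theorem kl3_ok : allBelow 3 8 kl3At = true := by decide +kernel

theorem ka3_ok : allBelow 3 8 (fun i => allList (ka3At i) (MD.ka.getD i [])) = true := by
  decide +kernel

theorem z3_ok : allBelow 2 3 z3At = true := by decide +kernel

/-- The stabiliser of a twisted pair. -/
noncomputable def St (i : Fin 8) : Subgroup ↥Kt where
  carrier := {g | act1 g (x3 i) = x3 i ∧ act2 g (y3 i) = y3 i}
  one_mem' := by simp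
  mul_mem' := by
    rintro g h ⟨hg1, hg2⟩ ⟨hh1, hh2⟩
    exact ⟨by rw [map_mul, Equiv.Perm.mul_apply, hh1, hg1], by rw [map_mul, Equiv.Perm.mul_apply, hh2, hg2]⟩
  inv_mem' := by
    rintro g ⟨hg1, hg2⟩
    refine ⟨?_, ?_⟩
    · rw [map_inv, Equiv.Perm.inv_def, Equiv.symm_apply_eq, hg1]
    · rw [map_inv, Equiv.Perm.inv_def, Equiv.symm_apply_eq, hg2]

theorem SK_lift (i : Fin 8) : ∀ s ∈ SK i, ∃ g ∈ St i, g.1.a = s := by
  intro s hs
  induction hs using Subgroup.closure_induction with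
  | mem y hy =>
    obtain ⟨w, hw, rfl⟩ := hy
    obtain ⟨v, hv, rfl⟩ := List.mem_map.mp hw
    have h := of_allBelow stab3_ok i i.2
    unfold stab3At at h
    rw [cond_false_eq_true] at h
    obtain ⟨n, hn, rfl⟩ := List.getElem_of_mem hv
    have hn' : n < (MD.stab.getD i []).length := Nat.eq_of_beq_eq_true h.1 ▸ hn
    have hq := allList_iff.mp h.2 ((SIdx i)[n], (MD.stab.getD i [])[n]) (by
      rw [← List.getElem_zip (h := by rw [List.length_zip]; omega)]
      exact List.getElem_mem _)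
    simp only [cond_false_eq_true] at hq
    obtain ⟨h1, h2, h3⟩ := hq
    set v := (SIdx i)[n]
    set a := jEq (moveCode (MD.X.getD i (0, [])) v) (MD.X.getD i (0, [])) ((MD.stab.getD i [])[n]).1 0
    set u := ev la (expW gK v) with hu
    have hum : u⁻¹ ∈ K2 := inv_mem (ev_expW_mem la gK v)
    let g : ↥Kt := ⟨⟨-(a : ZMod 3), u⁻¹⟩, hum⟩
    have hx : act1 g (x3 i) = x3 i := by
      show act3 ⟨-(a : ZMod 3), u⁻¹⟩ (x3 i) = x3 i
      rw [show (⟨-(a : ZMod 3), u⁻¹⟩ : Bx) = ⟨-(a : ZMod 3), 1⟩ * ⟨0, u⁻¹⟩ by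
        simp [mul_def], map_mul, Equiv.Perm.mul_apply, x3, pt3_move, mul_zero, add_zero]
      have e := pt3_eq h1 0
      rw [Nat.cast_zero] at e
      change pt3 (moveCode (MD.X.getD i (0, [])) v) 0 = _ at e
      rw [show ((MD.X.getD i (0, [])).1, (MD.X.getD i (0, [])).2 ++ expW gK v) =
        moveCode (MD.X.getD i (0, [])) v from rfl, e, act3_pt3, pt3]
      simp only [sg_one, one_mul]
      rw [neg_add_cancel]
    have hy : act2 g (y3 i) = y3 i := by
      show act3 ⟨-(-(a : ZMod 3)) + eK u⁻¹, u⁻¹⟩ (y3 i) = y3 i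
      rw [y3, pt3_move, mul_zero, add_zero, neg_neg]
      have ee : (a : ZMod 3) + eK u⁻¹ = ((a + eW v.reverse : Nat) : ZMod 3) := by
        rw [Nat.cast_add, eW_eq, ← expW_reverse, ev_reverse_la]
      rw [ee]
      have e := pt3_eq h2 (a + eW v.reverse)
      change pt3 (moveCode (MD.Y.getD i (0, [])) v) _ = _ at e
      rw [show ((MD.Y.getD i (0, [])).1, (MD.Y.getD i (0, [])).2 ++ expW gK v) =
        moveCode (MD.Y.getD i (0, [])) v from rfl, e]
      have h3' := congrArg (fun n : Nat => (n : ZMod 3)) (Nat.eq_of_beq_eq_true h3)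
      simp only [Nat.cast_zero] at h3'
      refine congrArg _ ?_
      refine Eq.trans ?_ h3'
      exact (ZMod.natCast_mod _ _).symm
    exact ⟨g⁻¹, inv_mem ⟨hx, hy⟩, by show (u⁻¹)⁻¹ = u; rw [inv_inv]⟩
  | one => exact ⟨1, one_mem _, rfl⟩
  | mul a b _ _ ha hb =>
    obtain ⟨g, hg, rfl⟩ := ha
    obtain ⟨h, hh, rfl⟩ := hb
    exact ⟨g * h, mul_mem hg hh, rfl⟩
  | inv a _ ha =>
    obtain ⟨g, hg, rfl⟩ := ha
    exact ⟨g⁻¹, inv_mem hg, rfl⟩

theorem cover3 (ω : Om3) : ∃ i, ∃ g : ↥Kt, act1 g (x3 i) = ω := by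
  obtain ⟨i, k, hk, h⟩ := cover (proj3 ω)
  have hp : proj3 (act3 ⟨0, k⟩ (x3 i)) = proj3 ω := by rw [proj3_act, proj3_x3, h]
  obtain ⟨d, hd⟩ := proj3_fibre hp
  refine ⟨i, ⟨⟨d, k⟩, hk⟩, ?_⟩
  show act3 ⟨d, k⟩ (x3 i) = ω
  rw [← hd, ← Equiv.Perm.mul_apply, ← map_mul]
  simp [mul_def, sg_one]

theorem finite_Om3 : Finite Om3 := inferInstance

theorem card_Om3 : 3 * 306936 ≤ Nat.card Om3 := by
  have hs : Function.Surjective proj3 := fun ω => by
    obtain ⟨i, k, _, rfl⟩ := cover ω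
    exact ⟨act3 ⟨0, k⟩ (x3 i), by rw [proj3_act, proj3_x3]⟩
  have hi : Function.Injective fun p : ZMod 3 × Om =>
      act3 ⟨p.1, 1⟩ (Function.surjInv hs p.2) := by
    rintro ⟨d, ω⟩ ⟨d', ω'⟩ h
    have h' : act3 ⟨d, 1⟩ (Function.surjInv hs ω) = act3 ⟨d', 1⟩ (Function.surjInv hs ω') := h
    have e : ω = ω' := by
      have := congrArg proj3 h'
      rw [proj3_act, proj3_act, Function.surjInv_eq hs, Function.surjInv_eq hs, map_one] at this
      exact this
    subst e
    have h2 := congrArg (act3 ⟨d', 1⟩⁻¹) h'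
    simp only [← Equiv.Perm.mul_apply, ← map_inv, ← map_mul] at h2
    rw [show (⟨d', 1⟩ : Bx)⁻¹ * ⟨d, 1⟩ = ⟨d - d', 1⟩ by
      simp only [inv_def, mul_def, sg_inv, sg_one, inv_one, one_mul]; congr 1; ring,
      inv_mul_cancel, map_one] at h2
    exact Prod.ext (sub_eq_zero.mp (act3_free h2)) rfl
  have := Nat.card_le_card_of_injective _ hi
  rwa [Nat.card_prod, card_Om, Nat.card_zmod] at this

theorem card_Kt : Nat.card ↥Kt ≤ 3 * 29713078886400 := by
  haveI := card_A.1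
  have hi : Function.Injective fun g : ↥Kt => (g.1.z, (⟨g.1.a, g.2⟩ : ↥K2)) := fun g h e =>
    Subtype.ext (Bx.ext (congrArg Prod.fst e) (congrArg (fun p => (Prod.snd p).1) e))
  have := Nat.card_le_card_of_injective _ hi
  rwa [Nat.card_prod, Nat.card_zmod, card_K2.1] at this

theorem kappa3_spec : ∃ f : Om3 → Om3, ∀ i, ∀ g : ↥Kt, f (act1 g (x3 i)) = act2 g (y3 i) := by
  haveI := card_A.1
  refine exists_equivariant2 act1 act2 x3 y3 (fun i => 3 * MD.sizes.getD i 0) (fun i => ?_) ?_ cover3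
  · refine pair_bound2 act1 act2 (S := St i) (fun s hs => hs.1) (fun s hs => hs.2) ?_
    choose f hf hfa using SK_lift i
    have hi : Function.Injective fun s : SK i => (⟨f s.1 s.2, hf s.1 s.2⟩ : St i) := fun s t e =>
      Subtype.ext (by
        rw [← hfa s.1 s.2, ← hfa t.1 t.2]
        exact congrArg (fun g : St i => g.1.1.a) e)
    have h1 := Nat.card_le_card_of_injective _ hi
    have h2 := card_SK i
    have h3 := card_Kt
    calc Nat.card ↥Kt ≤ 3 * 29713078886400 := h3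
      _ ≤ 3 * (MD.sizes.getD i 0 * Nat.card (SK i)) := Nat.mul_le_mul_left 3 h2
      _ ≤ 3 * MD.sizes.getD i 0 * Nat.card (St i) := by
        rw [mul_assoc]; exact Nat.mul_le_mul_left 3 (Nat.mul_le_mul_left _ h1)
  · refine le_trans ?_ card_Om3
    decide +kernel

/-- The map of `k`. -/
noncomputable def kap3 : Om3 → Om3 := kappa3_spec.choose

theorem kap3_pair (i : Fin 8) {g : Bx} (hg : g.a ∈ K2) :
    kap3 (act3 g (x3 i)) = act3 (φB g) (y3 i) :=
  kappa3_spec.choose_spec i ⟨g, hg⟩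

theorem kap3_involutive : Function.Involutive kap3 := by
  intro ω
  obtain ⟨i, ⟨g, hg⟩, rfl⟩ := cover3 ω
  have hg : g.a ∈ K2 := hg
  show kap3 (kap3 (act3 g (x3 i))) = act3 g (x3 i)
  have h := of_allBelow kk3_ok i i.2
  unfold kk3At at h
  unfold walk3 at h
  generalize (MD.kk.getD i ([], [])).1 = steps at h
  match steps with
  | [] => simp at h
  | s :: _ =>
    change cond (cond _ _ false) (cond _ (Nat.beq _ _) false) false = true at h
    simp only [cond_false_eq_true] at h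
    obtain ⟨⟨hs, h1⟩, h2, h3⟩ := h
    set j1 := jEq ((MD.Y.getD i (0, [])).1, (MD.Y.getD i (0, [])).2)
      ((MD.X.getD s.1 (0, [])).1, (MD.X.getD s.1 (0, [])).2 ++ expW gK s.2.1) s.2.2 0
    set u := ev la (expW gK s.2.1) with hu
    have hv : u⁻¹ ∈ K2 := inv_mem (ev_expW_mem la gK _)
    have hs8 : s.1 < 8 := len_X ▸ (Nat.ble_eq.mp hs : s.1 < MD.X.length)
    have e1 : y3 i = act3 ⟨(j1 : ZMod 3), u⁻¹⟩ (x3 ⟨s.1, hs8⟩) := by
      rw [x3, pt3_move, mul_zero, add_zero]
      exact (congrArg (pt3 _) Nat.cast_zero.symm).trans (pt3_eq h1 0)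
    have e2 : act3 (φB ⟨(j1 : ZMod 3), u⁻¹⟩) (y3 ⟨s.1, hs8⟩) = x3 i := by
      rw [φB, y3, pt3_move, mul_zero, add_zero]
      have e := pt3_eq h2 ((2 * j1 + eW s.2.1.reverse) % 3)
      have ee : -(j1 : ZMod 3) + eK u⁻¹ = (((2 * j1 + eW s.2.1.reverse) % 3 : Nat) : ZMod 3) := by
        rw [ZMod.natCast_mod, Nat.cast_add, Nat.cast_mul, eW_eq, ← expW_reverse, ev_reverse_la,
          show ((2 : Nat) : ZMod 3) = -1 from by decide, neg_one_mul]
      rw [ee]
      refine e.trans ?_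
      have h3' := congrArg (fun n : Nat => (n : ZMod 3)) (Nat.eq_of_beq_eq_true h3)
      simp only [Nat.cast_zero] at h3'
      refine congrArg (pt3 _) ?_
      refine Eq.trans ?_ h3'
      exact (ZMod.natCast_mod _ _).symm
    rw [kap3_pair i hg, e1, ← Equiv.Perm.mul_apply, ← map_mul,
      kap3_pair ⟨s.1, hs8⟩ (mul_mem (show (φB g).a ∈ K2 from hg) hv)]
    have hφ : φB (φB g * ⟨(j1 : ZMod 3), u⁻¹⟩) = g * φB ⟨(j1 : ZMod 3), u⁻¹⟩ := by
      have h := φK.map_mul ⟨φB g, hg⟩ ⟨⟨(j1 : ZMod 3), u⁻¹⟩, hv⟩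
      change φB (φB g * _) = φB (φB g) * φB _ at h
      rwa [φB_φB] at h
    rw [hφ, map_mul, Equiv.Perm.mul_apply, e2]

/-- The permutation of `k`. -/
noncomputable def κ3 : Equiv.Perm Om3 := kap3_involutive.toPerm _

theorem κ3_sq : κ3 * κ3 = 1 := Equiv.ext kap3_involutive

theorem κ3_conj {g : Bx} (hg : g.a ∈ K2) : κ3 * act3 g = act3 (φB g) * κ3 := by
  refine Equiv.ext fun ω => ?_
  obtain ⟨i, ⟨h, hh⟩, rfl⟩ := cover3 ω
  have hh : h.a ∈ K2 := hh
  show kap3 (act3 g (act3 h (x3 i))) = act3 (φB g) (kap3 (act3 h (x3 i)))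
  rw [← Equiv.Perm.mul_apply, ← map_mul, kap3_pair i (mul_mem hg hh), kap3_pair i hh,
    ← Equiv.Perm.mul_apply, ← map_mul]
  have e := φK.map_mul ⟨g, hg⟩ ⟨h, hh⟩
  change φB (g * h) = φB g * φB h at e
  rw [e]

theorem hκ3 : ∀ i < MD.X.length, ∀ g : Bx, g.a ∈ K2 →
    κ3 (act3 g (pt3 (MD.X.getD i (0, [])) 0)) = act3 (φB g) (pt3 (MD.Y.getD i (0, [])) 0) :=
  fun i hi _ hg => kap3_pair ⟨i, len_X ▸ hi⟩ hg

/-- A word of three steps by `k` and an odd letter commutes with what commutes with that letter. -/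
theorem cube_comm {b : A} (hb : sg b = -1) {g : Bx} (hg : g.a ∈ K2) (hc : g.a * b = b * g.a) :
    Commute ((κ3 * act3 (inB b)) ^ 3) (act3 g) := by
  have step : ∀ h : Bx, h.a = g.a →
      κ3 * act3 (inB b) * act3 h = act3 ⟨h.z + eK g.a, g.a⟩ * (κ3 * act3 (inB b)) := by
    intro h hh
    have e : inB b * h = ⟨-h.z, g.a⟩ * inB b := by
      simp only [inB_apply, mul_def, hb, hh, hc]
      congr 1
      ring
    rw [mul_assoc, ← map_mul, e, map_mul, ← mul_assoc,
      κ3_conj (g := ⟨-h.z, g.a⟩) hg, mul_assoc]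
    simp [φB]
  have h30 : (3 : ZMod 3) = 0 := by decide
  have e : (⟨g.z + eK g.a + eK g.a + eK g.a, g.a⟩ : Bx) = g :=
    Bx.ext (by linear_combination (eK g.a) * h30) rfl
  have s1 := step g rfl
  have s2 := step ⟨g.z + eK g.a, g.a⟩ rfl
  have s3 := step ⟨g.z + eK g.a + eK g.a, g.a⟩ rfl
  rw [e] at s3
  show _ = _
  generalize κ3 * act3 (inB b) = T at s1 s2 s3 ⊢
  calc T ^ 3 * act3 g = T * (T * (T * act3 g)) := by
        simp only [pow_succ, pow_zero, one_mul, mul_assoc]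
    _ = T * (T * (act3 ⟨g.z + eK g.a, g.a⟩ * T)) := by rw [s1]
    _ = T * ((T * act3 ⟨g.z + eK g.a, g.a⟩) * T) := by simp only [mul_assoc]
    _ = T * ((act3 ⟨g.z + eK g.a + eK g.a, g.a⟩ * T) * T) := by rw [s2]
    _ = (T * act3 ⟨g.z + eK g.a + eK g.a, g.a⟩) * (T * T) := by simp only [mul_assoc]
    _ = (act3 g * T) * (T * T) := by rw [s3]
    _ = act3 g * T ^ 3 := by simp only [pow_succ, pow_zero, one_mul, mul_assoc]

theorem eq_one_of_reps3 {W : Equiv.Perm Om3} (hc : ∀ g : Bx, g.a ∈ K2 → Commute W (act3 g))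
    (h : ∀ i, W (x3 i) = x3 i) : W = 1 := by
  refine Equiv.ext fun ω => ?_
  obtain ⟨i, ⟨g, hg⟩, rfl⟩ := cover3 ω
  show W (act3 g (x3 i)) = act3 g (x3 i)
  rw [← Equiv.Perm.mul_apply, (hc g hg).eq, Equiv.Perm.mul_apply, h]

theorem ev_pair3 (x : Nat) :
    ev (LP3 κ3) [1, x, 1, x, 1, x] = (κ3 * fl (LP3 κ3) x) ^ 3 := by
  simp only [ev_cons, ev_nil, mul_one, fl_LP3_one, pow_succ, pow_zero, one_mul, mul_assoc]

theorem kl3_rel : ev (LP3 κ3) [1, 0, 1, 0, 1, 0] = 1 := by
  refine eq_one_of_reps3 (fun g hg => ?_) fun i => ?_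
  · rw [ev_pair3, fl_LP3 κ3 (show (0 : Nat) ≠ 1 by norm_num)]
    refine cube_comm (by rw [fl_la_zero]; decide +kernel) hg ?_
    rw [fl_la_zero]
    exact Prod.ext (by simp) (mul_comm _ _)
  · have h := walk3_sound hκ3 κ3_sq _ _ _ _ _ _ _ _ (of_allBelow kl3_ok i i.2)
    rw [Nat.cast_zero, Equiv.Perm.inv_def, Equiv.symm_apply_eq] at h
    exact h.symm

theorem split3 (i : Fin 8) {g : Bx} (hg : g.a ∈ K2) :
    ∃ q ∈ MD.ka.getD i [], ∃ g' : Bx, g'.a ∈ K2 ∧ Commute g'.a a0 ∧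
      act3 g (x3 i) = act3 g' (pt3 ((MD.X.getD i (0, [])).1,
        (MD.X.getD i (0, [])).2 ++ (expW gK q.2.1).reverse) 0) := by
  have hS : ∀ (v : List (List Nat)), v = (SIdx i).map (fun v => proj (expW gK v)) →
      ∀ w ∈ v, ev Fi23.Lg w ∈ (SK i).map (MonoidHom.fst Cfsg.Spor.Fi23 (Multiplicative (ZMod 2))) := by
    intro v hv w hw
    subst hv
    obtain ⟨u, hu, rfl⟩ := List.mem_map.mp hw
    exact ⟨ev la (expW gK u), ev_mem_genW (List.mem_map.mpr ⟨u, hu, rfl⟩), fst_ev _⟩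
  have hforest : ∃ r ∈ rootsK i, ∃ β : Fin 31671, (β : Nat) = r ∧ σA g.a⁻¹ Pa ∈
      orb Fi23.ρ ((SK i).map (MonoidHom.fst Cfsg.Spor.Fi23 (Multiplicative (ZMod 2)))) β := by
    have hm := mem_mask (inv_mem hg)
    obtain ⟨e0, e1, e2, e3⟩ := SW_eq
    fin_cases i
    all_goals first
      | exact forestOn_sound matches_fst forest0 (by decide +kernel) (hS _ e0) _ hm
      | exact forestOn_sound matches_fst forest1 (by decide +kernel) (hS _ e1) _ hm
      | exact forestOn_sound matches_fst forest2 (by decide +kernel) (hS _ e2) _ hm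
      | exact forestOn_sound matches_fst forest3 (by decide +kernel) (hS _ e3) _ hm
  obtain ⟨r, hr, β, hβ, s', ⟨s, hs, rfl⟩, hse⟩ := hforest
  rw [ka_roots, List.mem_map] at hr
  obtain ⟨q, hq, rfl⟩ := hr
  have h := allList_iff.mp (of_allBelow ka_ok i i.2) q hq
  unfold kaAt at h
  simp only [cond_false_eq_true] at h
  obtain ⟨hl, hr, -⟩ := h
  set d := ev la (expW gK q.2.1) with hd
  have hd' : (σA d)⁻¹ Pa = β := Fin.ext (by
    rw [hd, σA_ev_inv _ hl, hβ]; exact Nat.eq_of_beq_eq_true hr)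
  obtain ⟨t, ht, hts⟩ := SK_lift i s hs
  refine ⟨q, hq, g * t.1 * (inB d)⁻¹, ?_, commute_a0 ?_, ?_⟩
  · exact mul_mem (mul_mem hg t.2) (inv_mem (ev_expW_mem la gK _))
  · show σA (g.a * t.1.a * d⁻¹) Pa = Pa
    have hse' : σA s β = σA g.a⁻¹ Pa := hse
    rw [hts, map_mul, map_mul, map_inv, Equiv.Perm.mul_apply, Equiv.Perm.mul_apply, hd', hse', map_inv]
    simp
  · have e : pt3 ((MD.X.getD i (0, [])).1, (MD.X.getD i (0, [])).2 ++ (expW gK q.2.1).reverse) 0 =
        act3 (inB d) (x3 i) := by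
      rw [x3, show inB d = ⟨0, (ev la (expW gK q.2.1).reverse)⁻¹⟩ by
        rw [ev_reverse_la, inv_inv, ← hd]; rfl, pt3_move, mul_zero, add_zero]
    rw [e, ← Equiv.Perm.mul_apply, ← map_mul, inv_mul_cancel_right, map_mul, Equiv.Perm.mul_apply]
    exact congrArg (act3 g) ht.1.symm

theorem ka3_rel : ev (LP3 κ3) [1, 2, 1, 2, 1, 2] = 1 := by
  refine Equiv.ext fun ω => ?_
  obtain ⟨i, ⟨g, hg⟩, rfl⟩ := cover3 ω
  show ev (LP3 κ3) _ (act3 g (x3 i)) = act3 g (x3 i)
  obtain ⟨q, hq, g', hg', hc, hx⟩ := split3 i hg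
  rw [hx]
  have h := allList_iff.mp (of_allBelow ka3_ok i i.2) q hq
  have hf := walk3_sound hκ3 κ3_sq _ _ _ _ _ _ _ _ h
  rw [Nat.cast_zero, Equiv.Perm.inv_def, Equiv.symm_apply_eq] at hf
  have hcomm : Commute (ev (LP3 κ3) [1, 2, 1, 2, 1, 2]) (act3 g') := by
    rw [ev_pair3, fl_LP3 κ3 (show (2 : Nat) ≠ 1 by norm_num),
      show fl la 2 = a0 by simp [a0]]
    exact cube_comm (by rw [a0, sg_ev]; decide +kernel) hg' hc.eq
  rw [← Equiv.Perm.mul_apply, hcomm.eq, Equiv.Perm.mul_apply, ← hf]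

theorem LP3_rels : ∀ w ∈ rels0, ev (LP3 κ3) w = 1 := by
  intro w hw
  have h := allList_iff.mp rel_shapes w hw
  unfold relShape at h
  cases h1 : wordEq w [1, 1]
  · rw [h1, cond_false] at h
    cases h2 : wordEq w [0, 1, 0, 1, 0, 1]
    · rw [h2, cond_false] at h
      cases h3 : wordEq w [1, 2, 1, 2, 1, 2]
      · rw [h3, cond_false] at h
        cases h4 : [3, 4, 5, 6, 7, 8, 9, 10, 11].any fun x => decide (w = [1, x, 1, x])
        · rw [h4, cond_false, cond_false_eq_true] at h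
          have hne : ∀ x ∈ w, x ≠ 1 := fun x hx hx1 => by
            have := allList_iff.mp h.1 x hx
            subst hx1
            simp at this
          rw [ev_LP3 κ3 w hne, eq_one_of_oneA h.2, map_one, map_one]
        · obtain ⟨x, hx, hwx⟩ := List.any_eq_true.mp h4
          rw [decide_eq_true_eq] at hwx
          subst hwx
          have hk : fl la x ∈ K2 := by
            have := ev_mem_genW (L := la)
              ((by decide +kernel : ∀ x ∈ [3, 4, 5, 6, 7, 8, 9, 10, 11], [x] ∈ gK) x hx)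
            simpa [K2] using this
          have he : eK (fl la x) = 0 := by
            have hv : expW gK [x - 3] = [x] :=
              (by decide +kernel : ∀ x ∈ [3, 4, 5, 6, 7, 8, 9, 10, 11], expW gK [x - 3] = [x]) x hx
            have hw0 : eW [x - 3] = 0 :=
              (by decide +kernel : ∀ x ∈ [3, 4, 5, 6, 7, 8, 9, 10, 11], eW [x - 3] = 0) x hx
            have := eW_eq [x - 3]
            rw [hv, hw0, ev_cons, ev_nil, mul_one, Nat.cast_zero] at this
            exact this.symm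
          have hx1 : x ≠ 1 := by rintro rfl; simp at hx
          simp only [ev_cons, ev_nil, mul_one, fl_LP3_one, fl_LP3 κ3 hx1]
          have hcm : Commute κ3 (act3 (inB (fl la x))) := by
            have h := κ3_conj (g := inB (fl la x)) hk
            rwa [show φB (inB (fl la x)) = inB (fl la x) from Bx.ext (by simp [φB, inB_apply, he]) rfl] at h
          have h := hcm.mul_pow 2
          rw [pow_two, pow_two, pow_two, κ3_sq, ← map_mul, ← map_mul, sq_la, map_one, map_one, mul_one] at h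
          simpa [mul_assoc] using h
      · rw [eq_of_wordEq h3]; exact ka3_rel
    · rw [eq_of_wordEq h2]
      have h := kl3_rel
      simp only [ev_cons, ev_nil, mul_one, ← mul_assoc] at h ⊢
      set L0 := fl (LP3 κ3) 0
      set K0 := fl (LP3 κ3) 1
      calc L0 * K0 * L0 * K0 * L0 * K0 = L0 * (K0 * L0 * K0 * L0 * K0 * L0) * L0⁻¹ := by group
        _ = 1 := by rw [h, mul_one, mul_inv_cancel]
  · rw [eq_of_wordEq h1]
    simp [fl_LP3_one, κ3_sq]

/-- The action of the presentation without the long relator. -/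
noncomputable def ρ3 : G0 →* Equiv.Perm Om3 :=
  pres0.hom pres0_ok (fun w hw => LP3_rels w (rels0_eq ▸ hw))

theorem ρ3_fl {l : Nat} (hl : l < 12) : ρ3 (fl Lg0 l) = fl (LP3 κ3) l := by
  obtain ⟨x, rfl⟩ := hix l hl
  exact pres0.hom_fl pres0_ok _ x

theorem ρ3_ev : ∀ w : List Nat, (∀ x ∈ w, x < 12) → ρ3 (ev Lg0 w) = ev (LP3 κ3) w := by
  intro w
  induction w with
  | nil => simp
  | cons x w ih =>
    intro hw
    rw [ev_cons, ev_cons, map_mul, ρ3_fl (hw x (by simp)), ih fun y hy => hw y (by simp [hy])]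

/-- The long relator turns the three points over the fixed one. -/
theorem ρ3_zword (j : Nat) (hj : j < 3) :
    (ρ3 (ev Lg0 zword))⁻¹ (.inl (none, (j : ZMod 3))) = .inl (none, ((j + 1) % 3 : Nat)) := by
  rw [ρ3_ev _ (by decide +kernel)]
  have h := walk3_sound hκ3 κ3_sq _ _ _ _ _ _ _ _ (of_allBelow z3_ok j hj)
  have e : ∀ d : ZMod 3, pt3 (0, []) d = .inl (none, d) := fun d => by
    show act3 _ (.inl (none, 0)) = _
    rw [act3_inl, mul_zero, add_zero]
    rfl
  rw [e, e] at h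
  exact h

end CfsgLib.Coset.Fi24.Schur
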