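import Cfsg.Agent.Coset.Table
import Cfsg.Agent.Coset.Fi24Schur.EightMoves

/-!
An identity of words in the Coxeter group of type `E₈`: the central involution of the parabolic
subgroup of type `E₇`, followed by the remaining end generator, cubes to the longest element.
-/

set_option autoImplicit false
set_option maxRecDepth 100000

namespace CfsgLib.Coset.Fi24.Schur

open CfsgLib.Coset

/-- Adjacency in the diagram: the path `0, …, 6` and `4 — 7`. -/
def adj8 (a b : Nat) : Bool :=
  [(0, 1), (1, 2), (2, 3), (3, 4), (4, 5), (5, 6), (4, 7), (1, 0), (2, 1), (3, 2), (4, 3), (5, 4),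
    (6, 5), (7, 4)].contains (a, b)

/-- The Coxeter relations. -/
structure Cox8 {Γ : Type*} [Group Γ] (L : List Γ) : Prop where
  sq : ∀ a, a < 8 → fl L a * fl L a = 1
  comm : ∀ a b, a < 8 → b < 8 → a ≠ b → adj8 a b = false → fl L a * fl L b = fl L b * fl L a
  braid : ∀ a b, adj8 a b = true → fl L a * fl L b * fl L a = fl L b * fl L a * fl L b

/-- Cancel (kind 1), commute (kind 2) or braid (kind 3) at a position. -/
def move8 : Nat → Nat → List Nat → Option (List Nat)
  | 0, 1, a :: b :: r => if a == b && Nat.blt a 8 then some r else none
  | 0, 2, a :: b :: r =>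
      if a != b && !adj8 a b && Nat.blt a 8 && Nat.blt b 8 then some (b :: a :: r) else none
  | 0, 3, a :: b :: c :: r => if a == c && adj8 a b then some (b :: a :: b :: r) else none
  | p + 1, k, a :: r => (move8 p k r).map (a :: ·)
  | _, _, _ => none

/-- Apply a list of moves. -/
def run8 : List (Nat × Nat) → List Nat → Option (List Nat)
  | [], w => some w
  | m :: ms, w => (move8 m.1 m.2 w).bind (run8 ms)

/-- Apply several lists of moves. -/
def runAll : List (List (Nat × Nat)) → List Nat → Option (List Nat)
  | [], w => some w
  | m :: ms, w => (run8 m w).bind (runAll ms)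

variable {Γ : Type*} [Group Γ] {L : List Γ}

theorem move8_ev (hL : Cox8 L) : ∀ (p k : Nat) (w w' : List Nat),
    move8 p k w = some w' → ev L w' = ev L w := by
  intro p
  induction p with
  | zero =>
    intro k w w' h
    unfold move8 at h
    split at h
    · rename_i a b r _
      split at h
      · rename_i hab
        simp only [Option.some.injEq] at h
        subst h
        simp only [Bool.and_eq_true, beq_iff_eq, Nat.blt_eq] at hab
        obtain ⟨rfl, ha⟩ := hab
        rw [ev_cons, ev_cons, ← mul_assoc, hL.sq a ha, one_mul]
      · simp at h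
    · rename_i a b r _
      split at h
      · rename_i hab
        simp only [Option.some.injEq] at h
        subst h
        simp only [Bool.and_eq_true, bne_iff_ne, Bool.not_eq_true', Nat.blt_eq] at hab
        rw [ev_cons, ev_cons, ev_cons, ev_cons, ← mul_assoc, ← mul_assoc,
          hL.comm a b hab.1.2 hab.2 hab.1.1.1 hab.1.1.2]
      · simp at h
    · rename_i a b c r _
      split at h
      · rename_i hab
        simp only [Option.some.injEq] at h
        subst h
        simp only [Bool.and_eq_true, beq_iff_eq] at hab
        obtain ⟨rfl, hadj⟩ := hab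
        simp only [ev_cons, ← mul_assoc]
        rw [hL.braid a b hadj]
      · simp at h
    · omega
    · simp at h
  | succ p ih =>
    intro k w w' h
    cases w with
    | nil => simp [move8] at h
    | cons a r =>
      simp only [move8, Option.map_eq_some_iff] at h
      obtain ⟨r', hr, rfl⟩ := h
      rw [ev_cons, ev_cons, ih k r r' hr]

theorem run8_ev (hL : Cox8 L) : ∀ (ms : List (Nat × Nat)) (w w' : List Nat),
    run8 ms w = some w' → ev L w' = ev L w := by
  intro ms
  induction ms with
  | nil => intro w w' h; simp only [run8, Option.some.injEq] at h; rw [h]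
  | cons m ms ih =>
    intro w w' h
    simp only [run8, Option.bind_eq_some_iff] at h
    obtain ⟨v, hv, hw⟩ := h
    rw [ih v w' hw, move8_ev hL _ _ _ _ hv]

theorem runAll_ev (hL : Cox8 L) : ∀ (ms : List (List (Nat × Nat))) (w w' : List Nat),
    runAll ms w = some w' → ev L w' = ev L w := by
  intro ms
  induction ms with
  | nil => intro w w' h; simp only [runAll, Option.some.injEq] at h; rw [h]
  | cons m ms ih =>
    intro w w' h
    simp only [runAll, Option.bind_eq_some_iff] at h
    obtain ⟨v, hv, hw⟩ := h
    rw [ih v w' hw, run8_ev hL _ _ _ hv]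

/-- The product of the seven generators of the parabolic subgroup. -/
def c7 : List Nat := [1, 2, 3, 4, 5, 6, 7]

/-- The product of the eight generators. -/
def c8 : List Nat := [0, 1, 2, 3, 4, 5, 6, 7]

/-- The ninth power of `c7` followed by the end generator. -/
def wk : List Nat := (List.replicate 9 c7).flatten ++ [0]

/-- The identity as a word. -/
def idWord : List Nat :=
  (List.replicate 3 wk).flatten ++ (List.replicate 15 c8).flatten.reverse

theorem idWord_reduces : runAll mvE idWord = some [] := by decide +kernel

theorem ev_rev8 (hL : Cox8 L) : ∀ w : List Nat, (∀ x ∈ w, x < 8) →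
    ev L w.reverse = (ev L w)⁻¹ := by
  intro w
  induction w with
  | nil => simp
  | cons k w ih =>
    intro hw
    rw [List.reverse_cons, ev_append, ih fun x hx => hw x (by simp [hx]), ev_cons, ev_cons, ev_nil,
      mul_one, mul_inv_rev, inv_eq_of_mul_eq_one_right (hL.sq k (hw k (by simp)))]

theorem ev_replicate8 (w : List Nat) : ∀ n, ev L (List.replicate n w).flatten = ev L w ^ n := by
  intro n
  induction n with
  | zero => simp
  | succ n ih => rw [List.replicate_succ, List.flatten_cons, ev_append, ih, pow_succ']

/-- The identity. -/
theorem cube_eq_top (hL : Cox8 L) : (ev L c7 ^ 9 * fl L 0) ^ 3 = ev L c8 ^ 15 := by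
  have h := runAll_ev hL _ _ _ idWord_reduces
  rw [ev_nil, idWord, ev_append, ev_rev8 hL _ (by decide +kernel), ev_replicate8, ev_replicate8, wk,
    ev_append, ev_replicate8, ev_cons, ev_nil, mul_one] at h
  exact mul_inv_eq_one.mp h.symm

end CfsgLib.Coset.Fi24.Schur
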