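import Cfsg.Agent.Coset.Fi24Schur.Eight
import Cfsg.Agent.Coset.Fi24.ThreeTransp
import Cfsg.Agent.Coset.Fi23.Schur.Main
import Cfsg.Agent.Coset.FischerTypes
import Cfsg.Prelude.Def_KGroupFacts

/-!
A finite group over `Cfsg.Spor.Fi24` with kernel central in a perfect even part and an involution
over the transposition is an image of the twelve letters without the long relator.
-/

set_option autoImplicit false
set_option maxRecDepth 100000
set_option Elab.async false
set_option linter.style.haveILetI false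

namespace CfsgLib.Coset.Fi24.Schur

open CfsgLib.Coset
open scoped commutatorElement

/-- The group over `Fi₂₄` to be compared with the presentation. -/
structure Over (X : Type) [Group X] where
  /-- the map -/
  π : X →* Cfsg.Spor.Fi24
  surj : Function.Surjective π
  cen : ∀ z ∈ π.ker, ∀ x : X, sgn (π x) = 1 → Commute x z
  perf : ∀ H : Subgroup X, (∀ x y : X, sgn (π x) = 1 → sgn (π y) = 1 → x * y * x⁻¹ * y⁻¹ ∈ H) →
    ∀ x : X, sgn (π x) = 1 → x ∈ H
  /-- the involution -/
  t : X
  t_map : π t = s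
  t_sq : t * t = 1

variable {X : Type} [Group X] (O : Over X)

theorem Over.odd_t : sgn (O.π O.t) = tau := by
  rw [O.t_map, s, sgn_fl (by norm_num)]

theorem Over.ker_even {z : X} (hz : z ∈ O.π.ker) : sgn (O.π z) = 1 := by
  rw [MonoidHom.mem_ker.mp hz, map_one]

/-- Odd elements act alike on the kernel. -/
theorem Over.odd_same {u v z : X} (hu : sgn (O.π u) = tau) (hv : sgn (O.π v) = tau)
    (hz : z ∈ O.π.ker) : u * z * u⁻¹ = v * z * v⁻¹ := by
  have h : Commute (v⁻¹ * u) z := O.cen z hz _ (by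
    rw [map_mul, map_mul, map_inv, map_inv, hu, hv, inv_mul_cancel])
  calc u * z * u⁻¹ = v * ((v⁻¹ * u) * z) * u⁻¹ := by group
    _ = v * (z * (v⁻¹ * u)) * u⁻¹ := by rw [h.eq]
    _ = v * z * v⁻¹ := by group

theorem Over.ker_comm {y z : X} (hy : y ∈ O.π.ker) (hz : z ∈ O.π.ker) : Commute y z :=
  O.cen z hz y (O.ker_even hy)

/-- The embedding of `Fi23`. -/
noncomputable def iot : Cfsg.Spor.Fi23 →* Cfsg.Spor.Fi24 :=
  frame.Ψ.comp (MonoidHom.inl Cfsg.Spor.Fi23 (Multiplicative (ZMod 2)))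

theorem iot_injective : Function.Injective iot :=
  Ψ_injective.comp fun _ _ h => congrArg Prod.fst h

theorem sgn_iot (x : Cfsg.Spor.Fi23) : sgn (iot x) = 1 := sgn_Ψ _

theorem s_comm_iot (x : Cfsg.Spor.Fi23) : Commute s (iot x) := by
  rw [← Ψ_tau]
  exact (show Commute ((1 : Cfsg.Spor.Fi23), tau) ((x, 1) : A) from
    Prod.ext (by simp) (mul_comm _ _)).map frame.Ψ

theorem Fi23_noncomm : ¬ ∀ a b : Cfsg.Spor.Fi23, a * b = b * a := by
  intro h
  haveI := Fi23.isSimple
  have hz : Subgroup.center Cfsg.Spor.Fi23 = ⊤ :=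
    eq_top_iff.mpr fun a _ => Subgroup.mem_center_iff.mpr fun b => h b a
  rw [(FischerTypes.type23.1 : Subgroup.center Cfsg.Spor.Fi23 = ⊥)] at hz
  obtain ⟨a, b, hab⟩ := exists_pair_ne Cfsg.Spor.Fi23
  have hall : ∀ g : Cfsg.Spor.Fi23, g = 1 := fun g => by
    have : g ∈ (⊥ : Subgroup Cfsg.Spor.Fi23) := hz.symm ▸ Subgroup.mem_top g
    simpa using this
  exact hab ((hall a).trans (hall b).symm)

theorem Fi23_perfect : commutator Cfsg.Spor.Fi23 = ⊤ := by
  haveI := Fi23.isSimple
  refine (inferInstance : (commutator Cfsg.Spor.Fi23).Normal).eq_bot_or_eq_top.resolve_left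
    fun h => Fi23_noncomm fun a b => ?_
  have hab := Subgroup.commutator_mem_commutator (Subgroup.mem_top a) (Subgroup.mem_top b)
  rw [← commutator_def, h, Subgroup.mem_bot, commutatorElement_eq_one_iff_mul_comm] at hab
  exact hab

/-- A lift of `Fi23`. -/
theorem Over.exists_lift [Finite X] :
    ∃ f : Cfsg.Spor.Fi23 →* X, ∀ x, O.π (f x) = iot x := by
  haveI := Fi23.card_le.1
  set P := iot.range.comap O.π
  have hPe : ∀ x ∈ P, sgn (O.π x) = 1 := by
    intro x hx
    obtain ⟨a, ha⟩ := hx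
    rw [← ha, sgn_iot]
  let e := (MonoidHom.ofInjective iot_injective).symm
  let q : ↥P →* Cfsg.Spor.Fi23 :=
    e.toMonoidHom.comp ((O.π.comp P.subtype).codRestrict iot.range fun x => x.2)
  have hq : ∀ x : ↥P, iot (q x) = O.π x := fun x =>
    congrArg Subtype.val ((MonoidHom.ofInjective iot_injective).apply_symm_apply ⟨O.π x, x.2⟩)
  have hqs : Function.Surjective q := fun a => by
    obtain ⟨x, hx⟩ := O.surj (iot a)
    exact ⟨⟨x, ⟨a, hx.symm⟩⟩, iot_injective ((hq _).trans hx)⟩
  have hqc : ∀ z : ↥P, q z = 1 → ∀ x : ↥P, Commute x z := by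
    intro z hz x
    refine Subtype.ext (O.cen z ?_ x (hPe _ x.2))
    rw [MonoidHom.mem_ker, ← hq, hz, map_one]
  set C := commutator ↥P
  have hmap : C.map q = ⊤ := by
    show Subgroup.map q ⁅(⊤ : Subgroup ↥P), (⊤ : Subgroup ↥P)⁆ = ⊤
    rw [Subgroup.map_commutator, Subgroup.map_top_of_surjective _ hqs]
    exact (commutator_def _).symm.trans Fi23_perfect
  let qC : ↥C →* Cfsg.Spor.Fi23 := q.comp C.subtype
  have hstem : Cfsg.IsStemExtension qC := by
    refine ⟨fun a => ?_, fun z hz => Subgroup.mem_center_iff.mpr fun x => Subtype.ext ?_, fun z _ => ?_⟩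
    · obtain ⟨x, hx, rfl⟩ : a ∈ C.map q := hmap.symm ▸ Subgroup.mem_top a
      exact ⟨⟨x, hx⟩, rfl⟩
    · exact hqc _ hz x
    · -- the derived group is perfect
      have key : C ≤ (commutator ↥C).map C.subtype := by
        show commutator ↥P ≤ _
        rw [commutator_def, Subgroup.commutator_le]
        intro a _ b _
        obtain ⟨a', ha', hqa⟩ : q a ∈ C.map q := hmap.symm ▸ Subgroup.mem_top _
        obtain ⟨b', hb', hqb⟩ : q b ∈ C.map q := hmap.symm ▸ Subgroup.mem_top _
        have za : ∀ x : ↥P, Commute x (a'⁻¹ * a) :=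
          hqc _ (by rw [map_mul, map_inv, hqa, inv_mul_cancel])
        have zb : ∀ x : ↥P, Commute x (b'⁻¹ * b) :=
          hqc _ (by rw [map_mul, map_inv, hqb, inv_mul_cancel])
        have e : ⁅a, b⁆ = ⁅a', b'⁆ := by
          have h1 : ∀ (a a' z : ↥P), (∀ x, Commute x z) → a = a' * z → ∀ b : ↥P, ⁅a, b⁆ = ⁅a', b⁆ := by
            intro a a' z hz ha b
            subst ha
            simp only [commutatorElement_def, mul_inv_rev]
            calc a' * z * b * (z⁻¹ * a'⁻¹) * b⁻¹ = a' * (z * b) * z⁻¹ * a'⁻¹ * b⁻¹ := by group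
              _ = a' * (b * z) * z⁻¹ * a'⁻¹ * b⁻¹ := by rw [(hz b).eq]
              _ = a' * b * a'⁻¹ * b⁻¹ := by group
          rw [h1 a a' _ za (by rw [mul_inv_cancel_left]) b,
            ← commutatorElement_inv b a', h1 b b' _ zb (by rw [mul_inv_cancel_left]) a',
            commutatorElement_inv]
        rw [e]
        exact ⟨⁅(⟨a', ha'⟩ : ↥C), ⟨b', hb'⟩⁆,
          Subgroup.commutator_mem_commutator (Subgroup.mem_top _) (Subgroup.mem_top _), rfl⟩
      obtain ⟨w, hw, hwz⟩ := key z.2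
      rwa [← show w = z from Subtype.ext hwz]
  have hinj : Function.Injective qC := by
    obtain ⟨f, hf⟩ := Fi23.Schur.multiplier.2 ↥C qC hstem
    refine (injective_iff_map_eq_one qC).mpr fun x hx => ?_
    obtain ⟨u, hu⟩ := hf ⟨x, hx⟩
    haveI : Subsingleton (Multiplicative (ZMod 1)) := Multiplicative.toAdd.injective.subsingleton
    rw [Subsingleton.elim u 1, map_one] at hu
    exact (congrArg Subtype.val hu).symm
  let E := MulEquiv.ofBijective qC ⟨hinj, hstem.1⟩
  refine ⟨P.subtype.comp (C.subtype.comp E.symm.toMonoidHom), fun x => ?_⟩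
  show O.π ((E.symm x).1.1) = iot x
  rw [← hq]
  exact congrArg iot (E.apply_symm_apply x)

theorem Over.lift_unique {f g : Cfsg.Spor.Fi23 →* X} (hf : ∀ x, O.π (f x) = iot x)
    (hg : ∀ x, O.π (g x) = iot x) (x : Cfsg.Spor.Fi23) : f x = g x := by
  have hd : ∀ y, f y * (g y)⁻¹ ∈ O.π.ker := fun y => by
    rw [MonoidHom.mem_ker, map_mul, map_inv, hf, hg, mul_inv_cancel]
  have he : ∀ y, sgn (O.π (f y)) = 1 := fun y => by rw [hf, sgn_iot]
  let δ : Cfsg.Spor.Fi23 →* ↥O.π.ker :=
    MonoidHom.mk' (fun y => ⟨f y * (g y)⁻¹, hd y⟩) fun a b => Subtype.ext (by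
      show f (a * b) * (g (a * b))⁻¹ = f a * (g a)⁻¹ * (f b * (g b)⁻¹)
      have hc : Commute (g a) (f b * (g b)⁻¹) := O.cen _ (hd b) _ (by rw [hg, sgn_iot])
      calc f (a * b) * (g (a * b))⁻¹ = f a * (f b * (g b)⁻¹) * (g a)⁻¹ := by
            rw [map_mul, map_mul]; group
        _ = f a * ((g a)⁻¹ * (g a * (f b * (g b)⁻¹))) * (g a)⁻¹ := by group
        _ = f a * ((g a)⁻¹ * ((f b * (g b)⁻¹) * g a)) * (g a)⁻¹ := by rw [hc.eq]
        _ = f a * (g a)⁻¹ * (f b * (g b)⁻¹) := by group)
  have h1 : δ x = 1 := by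
    have hk : commutator Cfsg.Spor.Fi23 ≤ δ.ker := by
      rw [commutator_def, Subgroup.commutator_le]
      intro a _ b _
      rw [MonoidHom.mem_ker, map_commutatorElement, commutatorElement_eq_one_iff_mul_comm]
      exact Subtype.ext (O.ker_comm (δ a).2 (δ b).2)
    rw [Fi23_perfect] at hk
    exact hk (Subgroup.mem_top x)
  exact mul_inv_eq_one.mp (congrArg Subtype.val h1)

/-- The letters of the diagram of type `E₈`. -/
def eightL : List Nat := [1, 2, 3, 4, 5, 6, 7, 10]

theorem Over.lift_all [Finite X] :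
    ∃ L : List X, L.length = 12 ∧ (∀ l < 12, O.π (fl L l) = fl Lg l) ∧
      fl L 0 = O.t ∧ ∀ w ∈ rels0, ev L w = 1 := by
  obtain ⟨ι, hι⟩ := O.exists_lift
  have ht : O.t⁻¹ = O.t := inv_eq_of_mul_eq_one_right O.t_sq
  have hιt : ∀ x, Commute O.t (ι x) := fun x => by
    have h := O.lift_unique (f := (MulAut.conj O.t).toMonoidHom.comp ι) (g := ι) (fun y => by
      show O.π (O.t * ι y * O.t⁻¹) = iot y
      rw [map_mul, map_mul, map_inv, hι, O.t_map, (s_comm_iot y).eq, mul_inv_cancel_right]) hι x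
    change O.t * ι x * O.t⁻¹ = ι x at h
    exact mul_inv_eq_iff_eq_mul.mp h
  let tC : Multiplicative (ZMod 2) →* X :=
    MonoidHom.mk' (fun e => if e = 1 then 1 else O.t) (by
      intro a b
      have key : ∀ a b : Multiplicative (ZMod 2),
          (a = 1 → a * b = b) ∧ (b = 1 → a * b = a) ∧ (a ≠ 1 → b ≠ 1 → a * b = 1) := by decide +kernel
      obtain ⟨k1, k2, k3⟩ := key a b
      by_cases ha : a = 1
      · simp [ha]
      · by_cases hb : b = 1
        · simp [hb]
        · simp [ha, hb, k3 ha hb, O.t_sq])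
  have htC : tC tau = O.t := by
    show (if tau = 1 then (1 : X) else O.t) = O.t
    exact if_neg (by decide +kernel)
  let ΨX : A →* X := ι.noncommCoprod tC (fun x e => by
    rcases (by decide +kernel : ∀ e : Multiplicative (ZMod 2), e = 1 ∨ e = tau) e with rfl | rfl
    · rw [map_one]; exact Commute.one_right _
    · rw [htC]; exact (hιt x).symm)
  have hΨv : ∀ (x : Cfsg.Spor.Fi23) e, ΨX (x, e) = ι x * tC e := fun x e => rfl
  have hΨ : ∀ a : A, O.π (ΨX a) = frame.Ψ a := by
    rintro ⟨x, e⟩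
    rw [hΨv, map_mul, hι]
    have he : O.π (tC e) = frame.Ψ ((1 : Cfsg.Spor.Fi23), e) := by
      rcases (by decide +kernel : ∀ e : Multiplicative (ZMod 2), e = 1 ∨ e = tau) e with rfl | rfl
      · rw [map_one, map_one, Prod.mk_one_one, map_one]
      · rw [htC, O.t_map, Ψ_tau]
    rw [he, iot, MonoidHom.comp_apply, ← map_mul]
    congr 1
    exact Prod.ext (mul_one x) (one_mul e)
  have h0 : ΨX (fl la 0) = O.t := by rw [fl_la_zero, hΨv, map_one, one_mul, htC]
  -- the letters other than `k`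
  set x : Nat → X := fun l => ΨX (fl la l) with hx
  have hxπ : ∀ l, l ≠ 1 → O.π (x l) = fl Lg l := fun l hl => by rw [hx, hΨ, frame.Ψ_fl hl]
  have hxo : ∀ l, l < 12 → l ≠ 1 → sgn (O.π (x l)) = tau := fun l h1 h2 => by
    rw [hxπ l h2, sgn_fl h1]
  have hxs : ∀ l, x l * x l = 1 := fun l => by rw [hx, ← map_mul, sq_la, map_one]
  have hxc : ∀ a b, oneA [a, b, a, b] = true → x a * x b = x b * x a := fun a b h => by
    have h := congrArg ΨX (eq_one_of_oneA h)
    simp only [ev_cons, ev_nil, mul_one, map_mul, map_one] at h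
    change x a * (x b * (x a * x b)) = 1 at h
    calc x a * x b = x b * x b * (x a * x b) := by rw [hxs b, one_mul]
      _ = x b * (x a * x a) * (x b * (x a * x b)) := by rw [hxs a]; group
      _ = x b * x a * (x a * (x b * (x a * x b))) := by group
      _ = x b * x a := by rw [h, mul_one]
  have hxb : ∀ a b, oneA [a, b, a, b, a, b] = true → x a * x b * x a = x b * x a * x b := fun a b h => by
    have h := congrArg ΨX (eq_one_of_oneA h)
    simp only [ev_cons, ev_nil, mul_one, map_mul, map_one] at h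
    change x a * (x b * (x a * (x b * (x a * x b)))) = 1 at h
    calc x a * x b * x a = x a * x b * x a * (x b * (x a * x b) * (x b * x a * x b)) := by
          rw [show x b * (x a * x b) * (x b * x a * x b) = 1 by
            calc x b * (x a * x b) * (x b * x a * x b) = x b * x a * (x b * x b) * x a * x b := by group
              _ = 1 := by rw [hxs b, mul_one, mul_assoc (x b) (x a), hxs a, mul_one, hxs b], mul_one]
      _ = x a * (x b * (x a * (x b * (x a * x b)))) * (x b * x a * x b) := by group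
      _ = x b * x a * x b := by rw [h, one_mul]
  -- the lift of `k`
  obtain ⟨g, hg⟩ := O.surj ((fl Lg 1 * fl Lg 2 * fl Lg 3)⁻¹)
  set k1 := g * x 2 * g⁻¹ with hk1
  set a1 := g * x 3 * g⁻¹ with ha1
  have hP1 : fl Lg 1 * fl Lg 1 = 1 := frame.sq 1
  have hbr : ∀ a b, [a, b, a, b, a, b] ∈ rels0 → fl Lg a * fl Lg b * fl Lg a = fl Lg b * fl Lg a * fl Lg b := by
    intro a b h
    have h := frame.rel _ h
    simp only [ev_cons, ev_nil, mul_one] at h
    have sa := frame.sq a
    have sb := frame.sq b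
    calc fl Lg a * fl Lg b * fl Lg a = fl Lg a * fl Lg b * fl Lg a *
          (fl Lg b * (fl Lg a * fl Lg b) * (fl Lg b * fl Lg a * fl Lg b)) := by
          rw [show fl Lg b * (fl Lg a * fl Lg b) * (fl Lg b * fl Lg a * fl Lg b) = 1 by
            calc fl Lg b * (fl Lg a * fl Lg b) * (fl Lg b * fl Lg a * fl Lg b)
                = fl Lg b * fl Lg a * (fl Lg b * fl Lg b) * fl Lg a * fl Lg b := by group
              _ = 1 := by rw [sb, mul_one, mul_assoc (fl Lg b) (fl Lg a), sa, mul_one, sb], mul_one]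
      _ = fl Lg a * (fl Lg b * (fl Lg a * (fl Lg b * (fl Lg a * fl Lg b)))) *
          (fl Lg b * fl Lg a * fl Lg b) := by group
      _ = _ := by rw [h, one_mul]
  have hcm : ∀ a b, [a, b, a, b] ∈ rels0 → fl Lg a * fl Lg b = fl Lg b * fl Lg a := by
    intro a b h
    have h := frame.rel _ h
    simp only [ev_cons, ev_nil, mul_one] at h
    calc fl Lg a * fl Lg b = fl Lg b * (fl Lg a * fl Lg a) * (fl Lg b * (fl Lg a * fl Lg b)) := by
          rw [frame.sq, mul_one, ← mul_assoc, frame.sq, one_mul]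
      _ = fl Lg b * fl Lg a * (fl Lg a * (fl Lg b * (fl Lg a * fl Lg b))) := by group
      _ = _ := by rw [h, mul_one]
  have hb12 := hbr 1 2 (by decide +kernel)
  have hb23 := hbr 2 3 (by decide +kernel)
  have hc13 := hcm 1 3 (by decide +kernel)
  have hk1π : O.π k1 = fl Lg 1 := by
    rw [hk1, map_mul, map_mul, map_inv, hg, hxπ 2 (by norm_num), inv_inv]
    have s1 := frame.sq 1; have s2 := frame.sq 2; have s3 := frame.sq 3
    have e : fl Lg 1 * fl Lg 2 * fl Lg 3 * fl Lg 1 = fl Lg 2 * (fl Lg 1 * fl Lg 2 * fl Lg 3) := by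
      calc fl Lg 1 * fl Lg 2 * fl Lg 3 * fl Lg 1 = fl Lg 1 * fl Lg 2 * (fl Lg 3 * fl Lg 1) := by group
        _ = fl Lg 1 * fl Lg 2 * fl Lg 1 * fl Lg 3 := by rw [← hc13]; group
        _ = _ := by rw [hb12]; group
    calc (fl Lg 1 * fl Lg 2 * fl Lg 3)⁻¹ * fl Lg 2 * (fl Lg 1 * fl Lg 2 * fl Lg 3)
        = (fl Lg 1 * fl Lg 2 * fl Lg 3)⁻¹ * (fl Lg 1 * fl Lg 2 * fl Lg 3 * fl Lg 1) := by
          rw [e]; group
      _ = fl Lg 1 := by group
  have ha1π : O.π a1 = fl Lg 2 := by
    rw [ha1, map_mul, map_mul, map_inv, hg, hxπ 3 (by norm_num), inv_inv]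
    have e : fl Lg 1 * fl Lg 2 * fl Lg 3 * fl Lg 2 = fl Lg 3 * (fl Lg 1 * fl Lg 2 * fl Lg 3) := by
      calc fl Lg 1 * fl Lg 2 * fl Lg 3 * fl Lg 2 = fl Lg 1 * (fl Lg 2 * fl Lg 3 * fl Lg 2) := by group
        _ = fl Lg 1 * fl Lg 3 * fl Lg 2 * fl Lg 3 := by rw [hb23]; group
        _ = _ := by rw [hc13]; group
    calc (fl Lg 1 * fl Lg 2 * fl Lg 3)⁻¹ * fl Lg 3 * (fl Lg 1 * fl Lg 2 * fl Lg 3)
        = (fl Lg 1 * fl Lg 2 * fl Lg 3)⁻¹ * (fl Lg 1 * fl Lg 2 * fl Lg 3 * fl Lg 2) := by
          rw [e]; group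
      _ = fl Lg 2 := by group
  set w := a1 * x 2 with hw
  have hwK : w ∈ O.π.ker := by
    rw [MonoidHom.mem_ker, hw, map_mul, ha1π, hxπ 2 (by norm_num), frame.sq]
  have a1s : a1 * a1 = 1 := by
    rw [ha1]; calc g * x 3 * g⁻¹ * (g * x 3 * g⁻¹) = g * (x 3 * x 3) * g⁻¹ := by group
      _ = 1 := by rw [hxs, mul_one, mul_inv_cancel]
  have k1s : k1 * k1 = 1 := by
    rw [hk1]; calc g * x 2 * g⁻¹ * (g * x 2 * g⁻¹) = g * (x 2 * x 2) * g⁻¹ := by group
      _ = 1 := by rw [hxs, mul_one, mul_inv_cancel]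
  set k2 := k1 * w with hk2
  have hko : sgn (O.π k1) = tau := by rw [hk1π, sgn_fl (by norm_num)]
  have k2s : k2 * k2 = 1 := by
    have e := O.odd_same hko (hxo 2 (by norm_num) (by norm_num)) hwK
    rw [inv_eq_of_mul_eq_one_right k1s, inv_eq_of_mul_eq_one_right (hxs 2)] at e
    calc k2 * k2 = k1 * w * k1 * w := by rw [hk2]; group
      _ = x 2 * w * x 2 * w := by rw [e]
      _ = x 2 * a1 * (x 2 * x 2) * a1 * x 2 := by rw [hw]; group
      _ = 1 := by rw [hxs 2, mul_one, mul_assoc (x 2) a1, a1s, mul_one, hxs]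
  have k2π : O.π k2 = fl Lg 1 := by
    rw [hk2, map_mul, hk1π, MonoidHom.mem_ker.mp hwK, mul_one]
  have k2a : (k2 * x 2) ^ 3 = 1 := by
    have e : k2 * x 2 = g * (x 2 * x 3) * g⁻¹ := by
      rw [hk2, hw, hk1, ha1]
      calc g * x 2 * g⁻¹ * (g * x 3 * g⁻¹ * x 2) * x 2 = g * (x 2 * x 3) * g⁻¹ * (x 2 * x 2) := by group
        _ = g * (x 2 * x 3) * g⁻¹ := by rw [hxs, mul_one]
    rw [e, conj_pow]
    have h := congrArg ΨX (eq_one_of_oneA (w := [2, 3, 2, 3, 2, 3]) (by decide +kernel))
    simp only [ev_cons, ev_nil, mul_one, map_mul, map_one] at h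
    rw [show (x 2 * x 3) ^ 3 = x 2 * (x 3 * (x 2 * (x 3 * (x 2 * x 3)))) by
      simp only [pow_succ, pow_zero, one_mul, mul_assoc]]
    rw [show x 2 * (x 3 * (x 2 * (x 3 * (x 2 * x 3)))) = 1 from h, mul_one, mul_inv_cancel]
  have ik2 : k2⁻¹ = k2 := inv_eq_of_mul_eq_one_right k2s
  have k2o : sgn (O.π k2) = tau := by rw [k2π, sgn_fl (by norm_num)]
  -- the nine letters commuting with `k`
  set d : Nat → X := fun l => x l * (k2 * x l * k2) with hd
  have hnine : ∀ l ∈ [3, 4, 5, 6, 7, 8, 9, 10, 11], l < 12 ∧ l ≠ 1 ∧ l ≠ 0 ∧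
      ([1, l, 1, l] ∈ rels0 ∨ [l, 1, l, 1] ∈ rels0) := by decide +kernel
  have dK : ∀ l ∈ [3, 4, 5, 6, 7, 8, 9, 10, 11], d l ∈ O.π.ker := by
    intro l hl
    obtain ⟨h1, h2, -, h3⟩ := hnine l hl
    have hc : fl Lg 1 * fl Lg l = fl Lg l * fl Lg 1 := h3.elim (hcm 1 l) fun h => (hcm l 1 h).symm
    rw [MonoidHom.mem_ker, hd, map_mul, map_mul, map_mul, hxπ l h2, k2π, hc, mul_assoc (fl Lg l) (fl Lg 1),
      frame.sq, mul_one, frame.sq]
  have dk : ∀ l, k2 * x l * k2 = x l * d l := fun l => by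
    show k2 * x l * k2 = x l * (x l * (k2 * x l * k2))
    rw [← mul_assoc (x l) (x l), hxs, one_mul]
  have odd_inv : ∀ l ∈ [3, 4, 5, 6, 7, 8, 9, 10, 11], ∀ u : X, sgn (O.π u) = tau → u * u = 1 →
      u * d l * u = (d l)⁻¹ := by
    intro l hl u hu hu2
    obtain ⟨h1, h2, -, -⟩ := hnine l hl
    have e := O.odd_same hu (hxo l h1 h2) (dK l hl)
    rw [inv_eq_of_mul_eq_one_right hu2, inv_eq_of_mul_eq_one_right (hxs l)] at e
    rw [e]
    refine (inv_eq_of_mul_eq_one_left ?_).symm
    rw [hd]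
    calc x l * (x l * (k2 * x l * k2)) * x l * (x l * (k2 * x l * k2))
        = (x l * x l) * k2 * x l * k2 * (x l * x l) * k2 * x l * k2 := by group
      _ = k2 * x l * (k2 * k2) * x l * k2 := by rw [hxs, one_mul, mul_one]; group
      _ = 1 := by rw [k2s, mul_one, mul_assoc k2 (x l), hxs, mul_one, k2s]
  -- moving the kernel elements
  have swap : ∀ l ∈ [3, 4, 5, 6, 7, 8, 9, 10, 11], ∀ u : X, sgn (O.π u) = tau → u * u = 1 →
      d l * u = u * (d l)⁻¹ := by
    intro l hl u hu hu2
    calc d l * u = u * u * (d l * u) := by rw [hu2, one_mul]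
      _ = u * (u * d l * u) := by group
      _ = _ := by rw [odd_inv l hl u hu hu2]
  have sq_eq : ∀ l ∈ [3, 4, 5, 6, 7, 8, 9, 10, 11], ∀ m ∈ [3, 4, 5, 6, 7, 8, 9, 10, 11],
      x l * x m = x m * x l → d l * d l = d m * d m := by
    intro l hl m hm hc
    obtain ⟨l1, l2, -, -⟩ := hnine l hl
    obtain ⟨m1, m2, -, -⟩ := hnine m hm
    have h : (k2 * x l * k2) * (k2 * x m * k2) = (k2 * x m * k2) * (k2 * x l * k2) := by
      calc (k2 * x l * k2) * (k2 * x m * k2) = k2 * x l * (k2 * k2) * x m * k2 := by group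
        _ = k2 * (x l * x m) * k2 := by rw [k2s, mul_one]; group
        _ = k2 * (x m * x l) * k2 := by rw [hc]
        _ = k2 * x m * (k2 * k2) * x l * k2 := by rw [k2s, mul_one]; group
        _ = _ := by group
    rw [dk, dk] at h
    have e1 : x l * d l * (x m * d m) = x l * x m * ((d l)⁻¹ * d m) := by
      calc x l * d l * (x m * d m) = x l * (d l * x m) * d m := by group
        _ = _ := by rw [swap l hl _ (hxo m m1 m2) (hxs m)]; group
    have e2 : x m * d m * (x l * d l) = x m * x l * ((d m)⁻¹ * d l) := by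
      calc x m * d m * (x l * d l) = x m * (d m * x l) * d l := by group
        _ = _ := by rw [swap m hm _ (hxo l l1 l2) (hxs l)]; group
    rw [e1, e2, hc] at h
    have h' := mul_left_cancel h
    have c := O.ker_comm (dK l hl) (dK m hm)
    calc d l * d l = d l * (d m * ((d m)⁻¹ * d l)) := by group
      _ = d l * (d m * ((d l)⁻¹ * d m)) := by rw [h']
      _ = (d l * d m) * (d l)⁻¹ * d m := by group
      _ = (d m * d l) * (d l)⁻¹ * d m := by rw [c.eq]
      _ = d m * d m := by group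
  have cube : ∀ l ∈ [4, 5, 6, 7, 8, 9, 10, 11], d l * (d l * d l) = 1 := by
    intro l hl
    have hl9 : l ∈ [3, 4, 5, 6, 7, 8, 9, 10, 11] := List.mem_cons_of_mem _ hl
    obtain ⟨l1, l2, -, -⟩ := hnine l hl9
    have hla : x l * x 2 = x 2 * x l := hxc l 2
      ((by decide +kernel : ∀ l ∈ [4, 5, 6, 7, 8, 9, 10, 11], oneA [l, 2, l, 2] = true) l hl)
    have hao := hxo 2 (by norm_num) (by norm_num)
    have hb : k2 * x 2 * k2 = x 2 * k2 * x 2 := by
      have h := k2a
      have i2 : (x 2)⁻¹ = x 2 := inv_eq_of_mul_eq_one_right (hxs 2)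
      calc k2 * x 2 * k2 = (k2 * x 2) ^ 3 * (x 2 * k2 * x 2)⁻¹⁻¹ := by
            rw [inv_inv]
            simp only [pow_succ, pow_zero, one_mul, mul_assoc]
            rw [← mul_assoc (x 2) (x 2), hxs, one_mul, ← mul_assoc k2 k2, k2s, one_mul, hxs, mul_one]
        _ = x 2 * k2 * x 2 := by rw [h, one_mul, inv_inv]
    -- conjugate the commutation with `a` by `k`
    have h : (k2 * x l * k2) * (k2 * x 2 * k2) = (k2 * x 2 * k2) * (k2 * x l * k2) := by
      calc (k2 * x l * k2) * (k2 * x 2 * k2) = k2 * x l * (k2 * k2) * x 2 * k2 := by group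
        _ = k2 * (x l * x 2) * k2 := by rw [k2s, mul_one]; group
        _ = k2 * (x 2 * x l) * k2 := by rw [hla]
        _ = k2 * x 2 * (k2 * k2) * x l * k2 := by rw [k2s, mul_one]; group
        _ = _ := by group
    rw [dk, hb] at h
    have xk : x l * k2 = k2 * (x l * d l) := by
      rw [← dk]
      calc x l * k2 = (k2 * k2) * x l * k2 := by rw [k2s, one_mul]
        _ = _ := by group
    have hy : d l * (x 2 * k2 * x 2) = (x 2 * k2 * x 2) * (d l)⁻¹ := by
      calc d l * (x 2 * k2 * x 2) = (d l * x 2) * k2 * x 2 := by group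
        _ = x 2 * ((d l)⁻¹ * k2) * x 2 := by rw [swap l hl9 _ hao (hxs 2)]; group
        _ = x 2 * (k2 * d l) * x 2 := by
          congr 2
          calc (d l)⁻¹ * k2 = k2 * k2 * ((d l)⁻¹ * k2) := by rw [k2s, one_mul]
            _ = k2 * (k2 * d l * k2)⁻¹ := by
              generalize d l = e
              rw [mul_inv_rev (k2 * e) k2, mul_inv_rev k2 e, ik2]; group
            _ = k2 * d l := by rw [odd_inv l hl9 _ k2o k2s, inv_inv]
        _ = x 2 * k2 * (d l * x 2) := by group
        _ = _ := by rw [swap l hl9 _ hao (hxs 2)]; group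
    have hz : x l * (x 2 * k2 * x 2) = (x 2 * k2 * x 2) * x l * (d l)⁻¹ := by
      calc x l * (x 2 * k2 * x 2) = (x l * x 2) * k2 * x 2 := by group
        _ = x 2 * (x l * k2) * x 2 := by rw [hla]; group
        _ = x 2 * k2 * x l * (d l * x 2) := by rw [xk]; group
        _ = x 2 * k2 * (x l * x 2) * (d l)⁻¹ := by rw [swap l hl9 _ hao (hxs 2)]; group
        _ = _ := by rw [hla]; group
    have e : (x 2 * k2 * x 2) * x l * ((d l)⁻¹ * (d l)⁻¹) = (x 2 * k2 * x 2) * (x l * d l) := by
      rw [← h]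
      calc (x 2 * k2 * x 2) * x l * ((d l)⁻¹ * (d l)⁻¹)
          = (x l * (x 2 * k2 * x 2)) * (d l)⁻¹ := by rw [hz]; group
        _ = x l * (d l * (x 2 * k2 * x 2)) := by rw [hy]; group
        _ = _ := by group
    have e' : (d l)⁻¹ * (d l)⁻¹ = d l := by
      have := mul_left_cancel (e.trans (mul_assoc _ _ _).symm)
      exact this
    calc d l * (d l * d l) = (d l)⁻¹ * (d l)⁻¹ * (d l * d l) := by rw [e']
      _ = 1 := by group
  have cube3 : d 3 * (d 3 * d 3) = 1 := by
    have h34 : x 3 * x 4 * x 3 = x 4 * x 3 * x 4 := hxb 3 4 (by decide +kernel)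
    have h35 := sq_eq 3 (by decide) 5 (by decide) (hxc 3 5 (by decide +kernel))
    have hc : (k2 * x 3 * k2) * (k2 * x 4 * k2) * (k2 * x 3 * k2) =
        (k2 * x 4 * k2) * (k2 * x 3 * k2) * (k2 * x 4 * k2) := by
      calc (k2 * x 3 * k2) * (k2 * x 4 * k2) * (k2 * x 3 * k2)
          = k2 * x 3 * (k2 * k2) * x 4 * (k2 * k2) * x 3 * k2 := by group
        _ = k2 * (x 3 * x 4 * x 3) * k2 := by rw [k2s, mul_one, mul_one]; group
        _ = k2 * (x 4 * x 3 * x 4) * k2 := by rw [h34]
        _ = k2 * x 4 * (k2 * k2) * x 3 * (k2 * k2) * x 4 * k2 := by rw [k2s, mul_one, mul_one]; group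
        _ = _ := by group
    rw [dk, dk] at hc
    obtain ⟨a1', a2', -, -⟩ := hnine 3 (by decide)
    obtain ⟨b1', b2', -, -⟩ := hnine 4 (by decide)
    have c34 := O.ker_comm (dK 3 (by decide)) (dK 4 (by decide))
    have move : ∀ p ∈ [3, 4, 5, 6, 7, 8, 9, 10, 11], ∀ q ∈ [3, 4, 5, 6, 7, 8, 9, 10, 11],
        x p * d p * (x q * d q) * (x p * d p) = x p * x q * x p * (d p * (d q)⁻¹ * d p) := by
      intro p hp q hq
      obtain ⟨p1, p2, -, -⟩ := hnine p hp
      obtain ⟨q1, q2, -, -⟩ := hnine q hq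
      have ev1 : sgn (O.π (x p)) = tau := hxo p p1 p2
      calc x p * d p * (x q * d q) * (x p * d p) = x p * (d p * x q) * (d q * x p) * d p := by group
        _ = x p * x q * ((d p)⁻¹ * x p) * (d q)⁻¹ * d p := by
          rw [swap p hp _ (hxo q q1 q2) (hxs q), swap q hq _ ev1 (hxs p)]; group
        _ = x p * x q * x p * (d p * (d q)⁻¹ * d p) := by
          have : (d p)⁻¹ * x p = x p * d p := by
            calc (d p)⁻¹ * x p = (d p)⁻¹ * (x p * (d p)⁻¹) * d p := by group
              _ = (d p)⁻¹ * (d p * x p) * d p := by rw [swap p hp _ ev1 (hxs p)]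
              _ = x p * d p := by group
          rw [this]; group
    rw [move 3 (by decide) 4 (by decide), move 4 (by decide) 3 (by decide), h34] at hc
    have h' := mul_left_cancel hc
    have e4 := cube 4 (by decide)
    have c34i := c34.inv_right
    have c43i := c34.symm.inv_right
    calc d 3 * (d 3 * d 3) = d 3 * (d 4)⁻¹ * d 3 * (d 4 * d 3) := by
          rw [show d 3 * (d 4)⁻¹ = (d 4)⁻¹ * d 3 from c34i.eq]
          calc d 3 * (d 3 * d 3) = (d 4)⁻¹ * (d 4 * (d 3 * d 3)) * d 3 := by group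
            _ = (d 4)⁻¹ * ((d 3 * d 3) * d 4) * d 3 := by rw [((c34.symm.mul_right c34.symm)).eq]
            _ = _ := by group
      _ = d 4 * (d 3)⁻¹ * d 4 * (d 4 * d 3) := by rw [h']
      _ = (d 3)⁻¹ * (d 4 * (d 4 * d 4)) * d 3 := by
          rw [show d 4 * (d 3)⁻¹ = (d 3)⁻¹ * d 4 from c43i.eq]; group
      _ = 1 := by rw [e4, mul_one, inv_mul_cancel]
  have cube9 : ∀ l ∈ [3, 4, 5, 6, 7, 8, 9, 10, 11], d l * (d l * d l) = 1 := by
    intro l hl
    rcases List.mem_cons.mp hl with rfl | h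
    · exact cube3
    · exact cube l h
  have eq_sq : ∀ l ∈ [3, 4, 5, 6, 7, 8, 9, 10, 11], ∀ m ∈ [3, 4, 5, 6, 7, 8, 9, 10, 11],
      x l * x m = x m * x l → d l = d m := by
    intro l hl m hm hc
    have h := sq_eq l hl m hm hc
    calc d l = (d l * (d l * d l)) * d l := by rw [cube9 l hl, one_mul]
      _ = (d l * d l) * (d l * d l) := by group
      _ = (d m * d m) * (d m * d m) := by rw [h]
      _ = (d m * (d m * d m)) * d m := by group
      _ = d m := by rw [cube9 m hm, one_mul]
  have deq : ∀ l ∈ [3, 4, 5, 6, 7, 8, 9, 10, 11], d l = d 3 := by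
    have h4 : d 4 = d 3 := by
      rw [eq_sq 4 (by decide) 6 (by decide) (hxc 4 6 (by decide +kernel)),
        eq_sq 3 (by decide) 6 (by decide) (hxc 3 6 (by decide +kernel))]
    have h : ∀ l ∈ [5, 6, 7, 8, 9, 10, 11], oneA [3, l, 3, l] = true := by decide +kernel
    intro l hl
    rcases (by
      simp only [List.mem_cons, List.not_mem_nil, or_false] at hl ⊢
      omega : l = 3 ∨ l = 4 ∨ l ∈ [5, 6, 7, 8, 9, 10, 11]) with rfl | rfl | h5
    · rfl
    · exact h4
    · exact (eq_sq 3 (by decide) l hl (hxc 3 l (h l h5))).symm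
  set k3 := k2 * d 3 with hk3
  have k3π : O.π k3 = fl Lg 1 := by
    rw [hk3, map_mul, k2π, MonoidHom.mem_ker.mp (dK 3 (by decide)), mul_one]
  have k3o : sgn (O.π k3) = tau := by rw [k3π, sgn_fl (by norm_num)]
  have d3k : d 3 * k2 = k2 * (d 3)⁻¹ := swap 3 (by decide) k2 k2o k2s
  have k3s : k3 * k3 = 1 := by
    calc k3 * k3 = k2 * (d 3 * k2) * d 3 := by rw [hk3]; group
      _ = 1 := by rw [d3k, ← mul_assoc k2 k2, k2s, one_mul, inv_mul_cancel]
  have k3a : (k3 * x 2) ^ 3 = 1 := by
    have e : k3 * x 2 = (k2 * x 2) * (d 3)⁻¹ := by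
      rw [hk3, mul_assoc, swap 3 (by decide) _ (hxo 2 (by norm_num) (by norm_num)) (hxs 2)]; group
    have hc : Commute (k2 * x 2) (d 3)⁻¹ := (O.cen _ (dK 3 (by decide)) _ (by
      rw [map_mul, map_mul, k2o, hxo 2 (by norm_num) (by norm_num)]; decide +kernel)).inv_right
    rw [e, hc.mul_pow, k2a, one_mul, inv_pow, pow_succ, pow_two, mul_assoc, cube3, inv_one]
  have k3c : ∀ l ∈ [3, 4, 5, 6, 7, 8, 9, 10, 11], k3 * x l = x l * k3 := by
    intro l hl
    obtain ⟨l1, l2, -, -⟩ := hnine l hl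
    have e : k3 * x l * k3 = x l := by
      calc k3 * x l * k3 = k2 * (d 3 * x l) * k2 * d 3 := by rw [hk3]; group
        _ = k2 * x l * ((d 3)⁻¹ * k2) * d 3 := by
          rw [swap 3 (by decide) _ (hxo l l1 l2) (hxs l)]; group
        _ = (k2 * x l * k2) * (d 3 * d 3) := by
          have : (d 3)⁻¹ * k2 = k2 * d 3 := by
            calc (d 3)⁻¹ * k2 = (d 3)⁻¹ * (k2 * (d 3)⁻¹) * d 3 := by group
              _ = (d 3)⁻¹ * (d 3 * k2) * d 3 := by rw [d3k]
              _ = k2 * d 3 := by group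
          rw [this]; group
        _ = x l * (d 3 * (d 3 * d 3)) := by rw [dk, deq l hl]; group
        _ = x l := by rw [cube3, mul_one]
    calc k3 * x l = k3 * x l * (k3 * k3) := by rw [k3s, mul_one]
      _ = (k3 * x l * k3) * k3 := by group
      _ = _ := by rw [e]
  have kab : k3 * x 2 * k3 = x 2 * k3 * x 2 := by
    have i2 : (x 2)⁻¹ = x 2 := inv_eq_of_mul_eq_one_right (hxs 2)
    calc k3 * x 2 * k3 = (k3 * x 2) ^ 3 * (x 2 * k3 * x 2) := by
          simp only [pow_succ, pow_zero, one_mul, mul_assoc]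
          rw [← mul_assoc (x 2) (x 2), hxs, one_mul, ← mul_assoc k3 k3, k3s, one_mul, hxs, mul_one]
      _ = x 2 * k3 * x 2 := by rw [k3a, one_mul]
  -- the list
  set L : List X := (List.range 12).map fun l => if l = 1 then k3 else x l with hL
  have hL1 : fl L 1 = k3 := by simp [fl, hL, List.getD_eq_getElem?_getD]
  have hLx : ∀ l, l < 12 → l ≠ 1 → fl L l = x l := fun l h1 h2 => by
    simp [fl, hL, List.getD_eq_getElem?_getD, h1, h2]
  have hLev : ∀ v : List Nat, (∀ y ∈ v, y < 12 ∧ y ≠ 1) → ev L v = ΨX (ev la v) := by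
    intro v
    induction v with
    | nil => simp
    | cons y v ih =>
      intro hv
      rw [ev_cons, ev_cons, map_mul, hLx y (hv y (by simp)).1 (hv y (by simp)).2,
        ih fun z hz => hv z (by simp [hz])]
  -- the eight letters
  set L8 : List X := eightL.map fun l => fl L l with hL8
  have hfl8 : ∀ i < 8, fl L8 i = fl L (eightL.getD i 0) := by
    intro i hi
    rw [fl, hL8, List.getD_eq_getElem _ _ (by rw [List.length_map]; exact hi), List.getElem_map,
      List.getD_eq_getElem]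
  have hcox : Cox8 L8 := by
    have hlt : ∀ i < 8, eightL.getD i 0 < 12 ∧ (i ≠ 0 → eightL.getD i 0 ≠ 1) := by decide +kernel
    have h80 : eightL.getD 0 0 = 1 := rfl
    refine ⟨fun a ha => ?_, fun a b ha hb hab hn => ?_, fun a b hab => ?_⟩
    · rw [hfl8 a ha]
      rcases eq_or_ne a 0 with rfl | h
      · rw [h80, hL1, k3s]
      · rw [hLx _ (hlt a ha).1 ((hlt a ha).2 h), hxs]
    · rw [hfl8 a ha, hfl8 b hb]
      rcases eq_or_ne a 0 with rfl | h
      · rw [h80, hL1, hLx _ (hlt b hb).1 ((hlt b hb).2 (Ne.symm hab))]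
        refine k3c _ ((by decide +kernel : ∀ b < 8, b ≠ 0 → adj8 0 b = false →
          eightL.getD b 0 ∈ [3, 4, 5, 6, 7, 8, 9, 10, 11]) b hb (Ne.symm hab) hn)
      · rcases eq_or_ne b 0 with rfl | h'
        · rw [h80, hL1, hLx _ (hlt a ha).1 ((hlt a ha).2 h)]
          exact (k3c _ ((by decide +kernel : ∀ b < 8, b ≠ 0 → adj8 b 0 = false →
            eightL.getD b 0 ∈ [3, 4, 5, 6, 7, 8, 9, 10, 11]) a ha h hn)).symm
        · rw [hLx _ (hlt a ha).1 ((hlt a ha).2 h), hLx _ (hlt b hb).1 ((hlt b hb).2 h')]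
          refine hxc _ _ ((by decide +kernel : ∀ a : Fin 8, ∀ b : Fin 8, a.val ≠ 0 → b.val ≠ 0 →
            a.val ≠ b.val → adj8 a.val b.val = false →
            oneA [eightL.getD a.val 0, eightL.getD b.val 0, eightL.getD a.val 0, eightL.getD b.val 0] = true)
            ⟨a, ha⟩ ⟨b, hb⟩ h h' hab hn)
    · have hm := hab
      simp only [adj8, List.contains_iff_mem, List.mem_cons, List.not_mem_nil, or_false, Prod.mk.injEq] at hm
      have ha : a < 8 := by omega
      have hb : b < 8 := by omega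
      rw [hfl8 a ha, hfl8 b hb]
      rcases eq_or_ne a 0 with rfl | h
      · obtain rfl : b = 1 := by omega
        rw [h80, hL1, hLx _ (hlt 1 (by norm_num)).1 ((hlt 1 (by norm_num)).2 one_ne_zero)]
        exact kab
      · rcases eq_or_ne b 0 with rfl | h'
        · obtain rfl : a = 1 := by omega
          rw [h80, hL1, hLx _ (hlt 1 (by norm_num)).1 ((hlt 1 (by norm_num)).2 one_ne_zero)]
          exact kab.symm
        · rw [hLx _ (hlt a ha).1 ((hlt a ha).2 h), hLx _ (hlt b hb).1 ((hlt b hb).2 h')]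
          exact hxb _ _ ((by decide +kernel : ∀ a < 8, ∀ b < 8, a ≠ 0 → b ≠ 0 → adj8 a b = true →
            oneA [eightL.getD a 0, eightL.getD b 0, eightL.getD a 0, eightL.getD b 0,
              eightL.getD a 0, eightL.getD b 0] = true) a ha b hb h h' hab)
  -- the longest element of the eight letters is trivial
  have hε : ev L8 c8 ^ 15 = 1 := by
    obtain ⟨g0, hg0⟩ := isConj_iff.mp (conj_letter 9 (by norm_num))
    obtain ⟨G, hG⟩ := O.surj g0
    set y : Nat → X := fun i => G⁻¹ * fl L8 i * G with hy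
    set T := G⁻¹ * x 9 * G with hT
    have hTπ : O.π T = s := by
      rw [hT, map_mul, map_mul, map_inv, hG, hxπ 9 (by norm_num), ← hg0]; group
    set z' := O.t * T with hz'
    have hz'K : z' ∈ O.π.ker := by
      rw [MonoidHom.mem_ker, hz', map_mul, hTπ, O.t_map, s_sq]
    have Ts : T * T = 1 := by
      rw [hT]; calc G⁻¹ * x 9 * G * (G⁻¹ * x 9 * G) = G⁻¹ * (x 9 * x 9) * G := by group
        _ = 1 := by rw [hxs, mul_one, inv_mul_cancel]
    have hTz : T = O.t * z' := by rw [hz', ← mul_assoc, O.t_sq, one_mul]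
    have hlt : ∀ i < 8, eightL.getD i 0 < 12 ∧ (i ≠ 0 → eightL.getD i 0 ≠ 1) := by decide +kernel
    have h8 : ∀ i < 8, Commute (fl L8 i) (x 9) := by
      intro i hi
      rw [hfl8 i hi]
      rcases eq_or_ne i 0 with rfl | h
      · rw [show eightL.getD 0 0 = 1 from rfl, hL1]
        exact k3c 9 (by decide)
      · rw [hLx _ (hlt i hi).1 ((hlt i hi).2 h)]
        exact hxc _ 9 ((by decide +kernel : ∀ i < 8, i ≠ 0 →
          oneA [eightL.getD i 0, 9, eightL.getD i 0, 9] = true) i hi h)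
    have hycomm : ∀ i < 8, Commute (y i) T := by
      intro i hi
      show y i * T = T * y i
      calc y i * T = G⁻¹ * (fl L8 i * x 9) * G := by rw [hy, hT]; group
        _ = G⁻¹ * (x 9 * fl L8 i) * G := by rw [(h8 i hi).eq]
        _ = _ := by rw [hy, hT]; group
    have hys : ∀ i < 8, y i * y i = 1 := by
      intro i hi
      calc y i * y i = G⁻¹ * (fl L8 i * fl L8 i) * G := by rw [hy]; group
        _ = 1 := by rw [hcox.sq i hi, mul_one, inv_mul_cancel]
    have hyo : ∀ i < 8, sgn (O.π (y i)) = tau := by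
      intro i hi
      have h1 : sgn (O.π (fl L8 i)) = tau := by
        rw [hfl8 i hi]
        rcases eq_or_ne i 0 with rfl | h
        · rw [show eightL.getD 0 0 = 1 from rfl, hL1, k3o]
        · rw [hLx _ (hlt i hi).1 ((hlt i hi).2 h)]
          exact hxo _ (hlt i hi).1 ((hlt i hi).2 h)
      rw [hy]
      simp only [map_mul, map_inv, h1]
      rw [mul_comm _ tau, inv_mul_cancel_right]
    have hq : ∀ i < 8, ∃ q : Cfsg.Spor.Fi23, ∃ z ∈ O.π.ker, y i = ι q * (O.t * z) := by
      intro i hi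
      have hmem : O.π (y i) ∈ Subgroup.centralizer ({s} : Set Cfsg.Spor.Fi24) := by
        rw [Subgroup.mem_centralizer_singleton_iff, ← hTπ, ← map_mul, ← map_mul, (hycomm i hi).eq]
      rw [centralizer_s, ← frame.range_Ψ] at hmem
      obtain ⟨⟨q, e⟩, he⟩ := hmem
      have het : e = tau := by
        have h := congrArg sgn he
        rw [sgn_Ψ, hyo i hi] at h
        exact h
      subst het
      refine ⟨q, O.t * (ι q)⁻¹ * y i, ?_, ?_⟩
      · rw [MonoidHom.mem_ker, map_mul, map_mul, map_inv, O.t_map, hι, ← he, iot, MonoidHom.comp_apply,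
          ← Ψ_tau, ← map_inv, ← map_mul, ← map_mul]
        refine (congrArg frame.Ψ ?_).trans (map_one _)
        refine Prod.ext ?_ ?_
        · simp
        · show tau * (1 : Multiplicative (ZMod 2))⁻¹ * tau = 1
          rw [inv_one, mul_one, tau_sq]
      · calc y i = ι q * (O.t * O.t) * (ι q)⁻¹ * y i := by rw [O.t_sq]; group
          _ = _ := by group
    choose q z hzK hyq using hq
    have hti : ∀ i (hi : i < 8), O.t * z i hi * O.t = (z i hi)⁻¹ := by
      intro i hi
      have h := hys i hi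
      rw [hyq i hi] at h
      have hc : Commute (O.t * z i hi) (ι (q i hi)) :=
        (hιt _).mul_left (O.cen _ (hzK i hi) _ (by rw [hι, sgn_iot])).symm
      rw [show ι (q i hi) * (O.t * z i hi) * (ι (q i hi) * (O.t * z i hi)) =
        ι (q i hi) * ((O.t * z i hi) * ι (q i hi)) * (O.t * z i hi) by group, hc.eq,
        show ι (q i hi) * (ι (q i hi) * (O.t * z i hi)) * (O.t * z i hi) =
          ι (q i hi) * ι (q i hi) * ((O.t * z i hi) * (O.t * z i hi)) by group, ← map_mul] at h
      have hπ := congrArg O.π h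
      rw [map_mul, hι, map_mul O.π (O.t * _), map_mul O.π O.t, O.t_map,
        MonoidHom.mem_ker.mp (hzK i hi), mul_one, s_sq, mul_one, map_one] at hπ
      rw [iot_injective (hπ.trans (map_one iot).symm), map_one, one_mul] at h
      refine eq_inv_of_mul_eq_one_left ?_
      rw [← h]; group
    have hz2 : ∀ i (hi : i < 8), z i hi * z i hi = z' * z' := by
      intro i hi
      have h := (hycomm i hi).eq
      rw [hyq i hi, hTz] at h
      have hcz' : Commute (O.t * z') (ι (q i hi)) :=
        (hιt _).mul_left (O.cen _ hz'K _ (by rw [hι, sgn_iot])).symm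
      rw [← mul_assoc (O.t * z') (ι (q i hi)), hcz'.eq, mul_assoc (ι (q i hi)) (O.t * z'),
        mul_assoc (ι (q i hi)) (O.t * z i hi)] at h
      have h := mul_left_cancel h
      have t1 : O.t * z i hi * (O.t * z') = (z i hi)⁻¹ * z' := by
        rw [← hti i hi]; group
      have t2 : O.t * z' * (O.t * z i hi) = z'⁻¹ * z i hi := by
        have h1 : O.t * z' * O.t = z'⁻¹ := by
          refine eq_inv_of_mul_eq_one_left ?_
          calc O.t * z' * O.t * z' = (O.t * z') * (O.t * z') := by group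
            _ = 1 := by rw [← hTz, Ts]
        rw [← h1]; group
      rw [t1, t2] at h
      have c := O.ker_comm (hzK i hi) hz'K
      calc z i hi * z i hi = z i hi * (z' * (z'⁻¹ * z i hi)) := by group
        _ = z i hi * (z' * ((z i hi)⁻¹ * z')) := by rw [h]
        _ = (z i hi * z') * (z i hi)⁻¹ * z' := by group
        _ = (z' * z i hi) * (z i hi)⁻¹ * z' := by rw [c.eq]
        _ = z' * z' := by group
    have hadj : ∀ i j (hi : i < 8) (hj : j < 8), adj8 i j = true → z i hi = z j hj := by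
      intro i j hi hj hij
      have h : (y i * y j) ^ 3 = 1 := by
        have hb := hcox.braid i j hij
        calc (y i * y j) ^ 3 = G⁻¹ * (fl L8 i * fl L8 j * fl L8 i * (fl L8 j * fl L8 i * fl L8 j)) * G := by
              rw [hy]; simp only [pow_succ, pow_zero, one_mul]; group
          _ = G⁻¹ * (fl L8 i * fl L8 j * fl L8 i * (fl L8 i * fl L8 j * fl L8 i)) * G := by rw [← hb]
          _ = G⁻¹ * (fl L8 i * fl L8 j * (fl L8 i * fl L8 i) * fl L8 j * fl L8 i) * G := by group
          _ = 1 := by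
            rw [hcox.sq i hi, mul_one, mul_assoc (fl L8 i), hcox.sq j hj, mul_one, hcox.sq i hi,
              mul_one, inv_mul_cancel]
      have e : y i * y j = ι (q i hi * q j hj) * ((z i hi)⁻¹ * z j hj) := by
        have hc : Commute (O.t * z i hi) (ι (q j hj)) :=
          (hιt _).mul_left (O.cen _ (hzK i hi) _ (by rw [hι, sgn_iot])).symm
        rw [hyq i hi, hyq j hj, map_mul, ← hti i hi]
        calc ι (q i hi) * (O.t * z i hi) * (ι (q j hj) * (O.t * z j hj))
            = ι (q i hi) * ((O.t * z i hi) * ι (q j hj)) * (O.t * z j hj) := by group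
          _ = ι (q i hi) * (ι (q j hj) * (O.t * z i hi)) * (O.t * z j hj) := by rw [hc.eq]
          _ = _ := by group
      have hK : (z i hi)⁻¹ * z j hj ∈ O.π.ker := mul_mem (inv_mem (hzK i hi)) (hzK j hj)
      have hcom : Commute (ι (q i hi * q j hj)) ((z i hi)⁻¹ * z j hj) := O.cen _ hK _ (by rw [hι, sgn_iot])
      rw [e, hcom.mul_pow, ← map_pow] at h
      have hπ := congrArg O.π h
      rw [map_mul, hι, map_pow O.π, MonoidHom.mem_ker.mp hK, one_pow, mul_one, map_one] at hπ
      rw [iot_injective (hπ.trans (map_one iot).symm), map_one, one_mul] at h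
      have c := O.ker_comm (inv_mem (hzK i hi)) (hzK j hj)
      have h2 : ((z i hi)⁻¹ * z j hj) ^ 2 = 1 := by
        rw [c.mul_pow, inv_pow, pow_two, pow_two, hz2 i hi, hz2 j hj, inv_mul_cancel]
      rw [pow_succ, h2, one_mul] at h
      exact inv_mul_eq_one.mp h
    have hall : ∀ i (hi : i < 8), z i hi = z 0 (by norm_num) := by
      have a1 := hadj 0 1 (by norm_num) (by norm_num) rfl
      have a2 := hadj 1 2 (by norm_num) (by norm_num) rfl
      have a3 := hadj 2 3 (by norm_num) (by norm_num) rfl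
      have a4 := hadj 3 4 (by norm_num) (by norm_num) rfl
      have a5 := hadj 4 5 (by norm_num) (by norm_num) rfl
      have a6 := hadj 5 6 (by norm_num) (by norm_num) rfl
      have a7 := hadj 4 7 (by norm_num) (by norm_num) rfl
      intro i hi
      interval_cases i
      exacts [rfl, a1.symm, (a1.trans a2).symm, (a1.trans (a2.trans a3)).symm,
        (a1.trans (a2.trans (a3.trans a4))).symm, (a1.trans (a2.trans (a3.trans (a4.trans a5)))).symm,
        (a1.trans (a2.trans (a3.trans (a4.trans (a5.trans a6))))).symm,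
        (a1.trans (a2.trans (a3.trans (a4.trans a7)))).symm]
    set T0 := O.t * z 0 (by norm_num) with hT0
    have T0s : T0 * T0 = 1 := by
      calc T0 * T0 = O.t * z 0 (by norm_num) * O.t * z 0 (by norm_num) := by rw [hT0]; group
        _ = 1 := by rw [hti 0 (by norm_num), inv_mul_cancel]
    have hprod : ∀ v : List Nat, (∀ i ∈ v, i < 8) →
        ∃ Q, G⁻¹ * ev L8 v * G = ι Q * T0 ^ v.length := by
      intro v
      induction v with
      | nil => intro _; exact ⟨1, by simp⟩
      | cons i v ih =>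
        intro hv
        obtain ⟨Q, hQ⟩ := ih fun j hj => hv j (by simp [hj])
        have hi := hv i (by simp)
        refine ⟨q i hi * Q, ?_⟩
        have hc : Commute T0 (ι Q) :=
          (hιt _).mul_left (O.cen _ (hzK 0 _) _ (by rw [hι, sgn_iot])).symm
        calc G⁻¹ * ev L8 (i :: v) * G = y i * (G⁻¹ * ev L8 v * G) := by rw [ev_cons, hy]; group
          _ = ι (q i hi) * T0 * (ι Q * T0 ^ v.length) := by rw [hyq i hi, hall i hi, hQ]
          _ = ι (q i hi) * (T0 * ι Q) * T0 ^ v.length := by group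
          _ = ι (q i hi) * (ι Q * T0) * T0 ^ v.length := by rw [hc.eq]
          _ = _ := by rw [List.length_cons, pow_succ', map_mul]; group
    obtain ⟨Q, hQ⟩ := hprod c8 (by decide +kernel)
    rw [show c8.length = 2 * 4 from rfl, pow_mul, pow_two, T0s, one_pow, mul_one] at hQ
    have he : G⁻¹ * ev L8 c8 ^ 15 * G = ι (Q ^ 15) := by
      rw [map_pow, ← hQ]
      conv_rhs => rw [← inv_inv G, inv_inv G⁻¹]
      simpa using (conj_pow (a := G⁻¹) (b := ev L8 c8) (i := 15)).symm
    have hK : O.π (ev L8 c8 ^ 15) = 1 := by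
      rw [← cube_eq_top hcox]
      have e7 : ev L8 c7 ^ 9 = O.t := by
        rw [← ev_replicate8]
        have hw : ev L8 (List.replicate 9 c7).flatten = ev L ((List.replicate 9 [2, 3, 4, 5, 6, 7, 10]).flatten) := by
          rw [ev_replicate8, ev_replicate8]
          congr 1
        rw [hw, hLev _ (by decide +kernel), ← h0]
        refine congrArg ΨX ?_
        have h := eq_one_of_oneA a_closed
        rw [ev_append, ev_reverse_la, mul_inv_eq_one, ev_cons, ev_nil, mul_one] at h
        exact h.symm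
      rw [e7, hfl8 0 (by norm_num), show eightL.getD 0 0 = 1 from rfl, hL1, map_pow, map_mul, k3π,
        O.t_map]
      have h := kl_cube
      have e : s * fl Lg 1 = s * (fl Lg 1 * s) * s⁻¹ := by group
      rw [e, conj_pow, h, mul_one, mul_inv_cancel]
    have h1 : O.π (ι (Q ^ 15)) = 1 := by
      rw [← he, map_mul, map_mul, hK, mul_one, ← map_mul, inv_mul_cancel, map_one]
    rw [hι] at h1
    rw [iot_injective (h1.trans (map_one iot).symm), map_one] at he
    calc ev L8 c8 ^ 15 = G * (G⁻¹ * ev L8 c8 ^ 15 * G) * G⁻¹ := by group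
      _ = 1 := by rw [he, mul_one, mul_inv_cancel]
  have e7 : ev L8 c7 ^ 9 = O.t := by
    have hw : ev L8 c7 = ev L [2, 3, 4, 5, 6, 7, 10] := by simp [c7, ev_cons, hfl8, eightL]
    rw [hw, ← ev_replicate8, hLev _ (by decide +kernel), ← h0]
    refine congrArg ΨX ?_
    have h := eq_one_of_oneA a_closed
    rw [ev_append, ev_reverse_la, mul_inv_eq_one, ev_cons, ev_nil, mul_one] at h
    exact h.symm
  have tk : (O.t * k3) ^ 3 = 1 := by
    have := cube_eq_top hcox
    rwa [e7, hfl8 0 (by norm_num), show eightL.getD 0 0 = 1 from rfl, hL1, hε] at this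
  refine ⟨L, by simp [hL], fun l hl => ?_, ?_, fun v hv => ?_⟩
  · rcases eq_or_ne l 1 with rfl | h
    · rw [hL1, k3π]
    · rw [hLx l hl h, hxπ l h]
  · rw [hLx 0 (by norm_num) (by norm_num)]; exact h0
  · have h := allList_iff.mp rel_shapes v hv
    unfold relShape at h
    cases h1 : wordEq v [1, 1]
    · rw [h1, cond_false] at h
      cases h2 : wordEq v [0, 1, 0, 1, 0, 1]
      · rw [h2, cond_false] at h
        cases h3 : wordEq v [1, 2, 1, 2, 1, 2]
        · rw [h3, cond_false] at h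
          cases h4 : [3, 4, 5, 6, 7, 8, 9, 10, 11].any fun x => decide (v = [1, x, 1, x])
          · rw [h4, cond_false, cond_false_eq_true] at h
            have hne : ∀ y ∈ v, y < 12 ∧ y ≠ 1 := fun y hy => by
              refine ⟨(by decide +kernel : ∀ w ∈ rels0, ∀ y ∈ w, y < 12) v hv y hy, fun hy1 => ?_⟩
              have := allList_iff.mp h.1 y hy
              subst hy1
              simp at this
            rw [hLev v hne, eq_one_of_oneA h.2, map_one]
          · obtain ⟨y, hy, hvy⟩ := List.any_eq_true.mp h4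
            rw [decide_eq_true_eq] at hvy
            subst hvy
            obtain ⟨y1, y2, -, -⟩ := hnine y hy
            simp only [ev_cons, ev_nil, mul_one, hL1, hLx y y1 y2]
            calc k3 * (x y * (k3 * x y)) = (k3 * x y) * (k3 * x y) := by group
              _ = (x y * k3) * (k3 * x y) := by rw [k3c y hy]
              _ = x y * (k3 * k3) * x y := by group
              _ = 1 := by rw [k3s, mul_one, hxs]
        · rw [eq_of_wordEq h3]
          simp only [ev_cons, ev_nil, mul_one, hL1, hLx 2 (by norm_num) (by norm_num)]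
          rw [← k3a]; simp only [pow_succ, pow_zero, one_mul, mul_assoc]
      · rw [eq_of_wordEq h2]
        simp only [ev_cons, ev_nil, mul_one, hL1, hLx 0 (by norm_num) (by norm_num)]
        rw [show x 0 = O.t from h0, ← tk]
        simp only [pow_succ, pow_zero, one_mul, mul_assoc]
    · rw [eq_of_wordEq h1]
      simp [hL1, k3s]

end CfsgLib.Coset.Fi24.Schur
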