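import Cfsg.Agent.Coset.Fi24Schur.Cover
import Cfsg.Agent.Coset.Fi24.Simple
import Cfsg.Prelude.Def_KGroupFacts
import Mathlib.GroupTheory.SpecificGroups.Cyclic
import Mathlib.GroupTheory.Sylow
import Mathlib.Algebra.Group.End

/-!
The even part of the twelve letters without the long relator is a stem extension of the simple
group by a group of order three.
-/

set_option autoImplicit false
set_option maxRecDepth 100000
set_option Elab.async false
set_option linter.style.haveILetI false

namespace CfsgLib.Coset.Fi24.Schur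

open CfsgLib.Coset

theorem commutator_simple : commutator Cfsg.Spor.Fi24' = ⊤ := by
  haveI := isSimple
  haveI := card_le.1
  rcases (inferInstance : (commutator Cfsg.Spor.Fi24').Normal).eq_bot_or_eq_top with h | h
  · exfalso
    letI : CommGroup Cfsg.Spor.Fi24' :=
      { (inferInstance : Group Cfsg.Spor.Fi24') with
        mul_comm := fun a b => by
          have hab := Subgroup.commutator_mem_commutator (Subgroup.mem_top a) (Subgroup.mem_top b)
          rw [← commutator_def, h, Subgroup.mem_bot, commutatorElement_eq_one_iff_mul_comm] at hab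
          exact hab }
    have hp : (Nat.card Cfsg.Spor.Fi24').Prime := IsSimpleGroup.prime_card
    rw [card_Fi24'] at hp
    exact absurd (hp.eq_one_or_self_of_dvd 2 (by norm_num)) (by norm_num)
  · exact h

/-- A homomorphism to a small group killing the kernel of a map onto `Fi₂₄′` is trivial. -/
theorem small_trivial {D Q : Type*} [Group D] [Finite D] [Group Q] [Finite Q]
    {σ : D →* Cfsg.Spor.Fi24'} (hσ : Function.Surjective σ) (f : D →* Q) (hQ : Nat.card Q ≤ 6)
    (hk : σ.ker ≤ f.ker) (d : D) : f d = 1 := by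
  haveI := isSimple
  haveI := card_le.1
  rcases ((inferInstance : f.ker.Normal).map σ hσ).eq_bot_or_eq_top with h | h
  · exfalso
    have e : f.ker = σ.ker := le_antisymm (by
      intro x hx
      have : σ x ∈ f.ker.map σ := ⟨x, hx, rfl⟩
      rw [h, Subgroup.mem_bot] at this
      exact this) hk
    have h1 : f.ker.index ≤ 6 := by
      rw [Subgroup.index_ker]
      exact (Subgroup.card_le_card_group _).trans hQ
    rw [e, Subgroup.index_ker, MonoidHom.range_eq_top.mpr hσ, Subgroup.card_top, card_Fi24'] at h1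
    omega
  · obtain ⟨x, hx, he⟩ : σ d ∈ f.ker.map σ := h ▸ Subgroup.mem_top _
    have : x⁻¹ * d ∈ f.ker := hk (by rw [MonoidHom.mem_ker, map_mul, map_inv, he, inv_mul_cancel])
    rw [MonoidHom.mem_ker, map_mul, map_inv, MonoidHom.mem_ker.mp hx, inv_one, one_mul] at this
    exact this

/-- The map forgetting the long relator. -/
noncomputable def π0 : G0 →* Cfsg.Spor.Fi24 :=
  pres0.hom pres0_ok (L := Lg) (fun w hw => frame.rel w (rels0_eq ▸ hw))

theorem π0_fl {l : Nat} (hl : l < 12) : π0 (fl Lg0 l) = fl Lg l := by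
  obtain ⟨x, rfl⟩ := hix l hl
  exact pres0.hom_fl pres0_ok _ x

theorem π0_ev : ∀ w : List Nat, (∀ x ∈ w, x < 12) → π0 (ev Lg0 w) = ev Lg w := by
  intro w
  induction w with
  | nil => simp
  | cons x w ih =>
    intro hw
    rw [ev_cons, ev_cons, map_mul, π0_fl (hw x (by simp)), ih fun y hy => hw y (by simp [hy])]

theorem π0_surjective : Function.Surjective π0 := by
  rw [← MonoidHom.range_eq_top, eq_top_iff, ← frame.gen, Subgroup.closure_le]
  intro x hx
  obtain ⟨l, hl, rfl⟩ := List.getElem_of_mem hx
  rw [← List.getD_eq_getElem Lg 1 hl]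
  exact ⟨fl Lg0 l, π0_fl (frame.len ▸ hl)⟩

/-- The long relator in `G0`. -/
noncomputable def zc : G0 := ev Lg0 zword

theorem π0_zc : π0 zc = 1 := by
  rw [zc, π0_ev _ (by decide +kernel)]
  exact pres.ev_rels pres_ok _ (rels_eq ▸ List.mem_append_right _ (List.mem_singleton_self _))

theorem cycle_ne {g : Equiv.Perm Om3} (h0 : g⁻¹ (.inl (none, 0)) = .inl (none, 1))
    (h1 : g⁻¹ (.inl (none, 1)) = .inl (none, 2)) : g ≠ 1 ∧ g * g ≠ 1 := by
  constructor
  · rintro rfl
    rw [inv_one, Equiv.Perm.one_apply] at h0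
    exact absurd (congrArg Prod.snd (Sum.inl_injective h0)) (by decide)
  · intro e
    have h : (g⁻¹ * g⁻¹) (.inl (none, 0)) = (.inl (none, 0) : Om3) := by
      rw [← mul_inv_rev, e, inv_one, Equiv.Perm.one_apply]
    rw [Equiv.Perm.mul_apply, h0, h1] at h
    exact absurd (congrArg Prod.snd (Sum.inl_injective h)) (by decide)

theorem zc_ne : zc ≠ 1 ∧ zc * zc ≠ 1 := by
  have hg := cycle_ne (g := ρ3 (ev Lg0 zword))
    (by simpa using ρ3_zword 0 (by norm_num)) (by simpa using ρ3_zword 1 (by norm_num))
  unfold zc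
  generalize ev Lg0 zword = w at hg ⊢
  exact ⟨fun e => hg.1 (by rw [e, map_one]), fun e => hg.2 (by rw [← map_mul, e, map_one])⟩

theorem card_ker_π0 : Nat.card π0.ker = 3 := by
  haveI := card_G0_le.1
  have h1 : Nat.card π0.ker * Nat.card Cfsg.Spor.Fi24 = Nat.card G0 := by
    rw [← π0.ker.card_mul_index, Subgroup.index_ker, MonoidHom.range_eq_top.mpr π0_surjective,
      Subgroup.card_top]
  have h2 := card_G0_le.2
  rw [card_eq] at h1
  have hle : Nat.card π0.ker ≤ 3 := by omega
  refine le_antisymm hle ?_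
  have hz : zc ∈ π0.ker := π0_zc
  have hi : Function.Injective (fun i : Fin 3 => (⟨zc ^ (i : Nat), pow_mem hz _⟩ : π0.ker)) := by
    intro i j h
    have h' : zc ^ (i : Nat) = zc ^ (j : Nat) := congrArg Subtype.val h
    obtain ⟨n1, n2⟩ := zc_ne
    fin_cases i <;> fin_cases j <;> simp [pow_two] at h' ⊢ <;>
      first
        | exact n1 h'
        | exact n1 h'.symm
        | exact n2 h'
        | exact n2 h'.symm
  have := Nat.card_le_card_of_injective _ hi
  simpa using this

theorem finite_G0 : Finite G0 := card_G0_le.1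

theorem card_G0 : Nat.card G0 = 3 * 2510411418381323442585600 := by
  rw [← π0.ker.card_mul_index, Subgroup.index_ker, MonoidHom.range_eq_top.mpr π0_surjective,
    Subgroup.card_top, card_ker_π0, card_eq]

/-- The even part. -/
noncomputable def D0 : Subgroup G0 := (sgn.comp π0).ker

/-- The map onto the simple group. -/
noncomputable def σ0 : ↥D0 →* Cfsg.Spor.Fi24' :=
  (π0.comp D0.subtype).codRestrict _ fun g => by
    rw [commutator_eq]; exact g.2

theorem σ0_surjective : Function.Surjective σ0 := by
  rintro ⟨x, hx⟩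
  obtain ⟨g, rfl⟩ := π0_surjective x
  have hg : g ∈ D0 := by
    rw [commutator_eq] at hx
    exact hx
  exact ⟨⟨g, hg⟩, rfl⟩

theorem ker_σ0 : σ0.ker = π0.ker.subgroupOf D0 := by
  ext g
  rw [MonoidHom.mem_ker, Subgroup.mem_subgroupOf, MonoidHom.mem_ker]
  exact ⟨fun h => congrArg Subtype.val h, fun h => Subtype.ext h⟩

theorem ker_π0_le : π0.ker ≤ D0 := fun g hg => by
  show sgn (π0 g) = 1
  rw [MonoidHom.mem_ker.mp hg, map_one]

theorem card_ker_σ0 : Nat.card σ0.ker = 3 := by
  rw [ker_σ0, Nat.card_congr (Subgroup.subgroupOfEquivOfLe ker_π0_le).toEquiv, card_ker_π0]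

/-- Two commuting involutions in a group of order six are equal, or one of them is trivial. -/
theorem six_comm {Q : Type*} [Group Q] [Finite Q] (hQ : Nat.card Q = 6) {a b : Q} (ha : a * a = 1)
    (hb : b * b = 1) (hab : Commute a b) : a = b ∨ a = 1 ∨ b = 1 := by
  by_contra h
  push Not at h
  obtain ⟨h1, h2, h3⟩ := h
  have ia : a⁻¹ = a := inv_eq_of_mul_eq_one_right ha
  have ib : b⁻¹ = b := inv_eq_of_mul_eq_one_right hb
  have hP : IsPGroup 2 (Subgroup.closure ({a, b} : Set Q)) := by
    intro g
    refine ⟨1, Subtype.ext ?_⟩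
    have hc : ∀ x ∈ Subgroup.closure ({a, b} : Set Q),
        x * x = 1 ∧ Commute x a ∧ Commute x b := by
      intro x hx
      induction hx using Subgroup.closure_induction with
      | mem y hy =>
        rcases hy with rfl | rfl
        · exact ⟨ha, Commute.refl _, hab⟩
        · exact ⟨hb, hab.symm, Commute.refl _⟩
      | one => exact ⟨mul_one _, Commute.one_left _, Commute.one_left _⟩
      | mul x y hx hy ihx ihy =>
        refine ⟨?_, ihx.2.1.mul_left ihy.2.1, ihx.2.2.mul_left ihy.2.2⟩
        have hxy : Commute y x := by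
          refine Commute.symm ?_
          have : Subgroup.closure ({a, b} : Set Q) ≤ Subgroup.centralizer {x} := by
            rw [Subgroup.closure_le]
            intro z hz
            rw [SetLike.mem_coe, Subgroup.mem_centralizer_singleton_iff]
            rcases hz with rfl | rfl
            · exact ihx.2.1.symm
            · exact ihx.2.2.symm
          exact (Subgroup.mem_centralizer_singleton_iff.mp (this hy)).symm
        calc x * y * (x * y) = x * (y * x) * y := by group
          _ = x * (x * y) * y := by rw [hxy.eq]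
          _ = x * x * (y * y) := by group
          _ = 1 := by rw [ihx.1, ihy.1, mul_one]
      | inv x _ ih => exact ⟨by rw [← mul_inv_rev, ih.1, inv_one], ih.2.1.inv_left, ih.2.2.inv_left⟩
    rw [pow_one, pow_two, Subgroup.coe_mul, (hc g g.2).1]
    rfl
  obtain ⟨n, hn⟩ := IsPGroup.iff_card.mp hP
  have hd : Nat.card (Subgroup.closure ({a, b} : Set Q)) ∣ 6 :=
    hQ ▸ Subgroup.card_subgroup_dvd_card _
  have hle : Nat.card (Subgroup.closure ({a, b} : Set Q)) ≤ 2 := by
    rw [hn] at hd ⊢
    rcases lt_or_ge n 2 with h | h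
    · interval_cases n <;> norm_num
    · exfalso
      have : 2 ^ 2 ∣ 6 := (pow_dvd_pow 2 h).trans hd
      norm_num at this
  let f : Fin 3 → Subgroup.closure ({a, b} : Set Q) :=
    ![1, ⟨a, Subgroup.subset_closure (Or.inl rfl)⟩, ⟨b, Subgroup.subset_closure (Or.inr rfl)⟩]
  have hf : Function.Injective f := by
    intro i j e
    fin_cases i <;> fin_cases j <;> simp [f, Subtype.ext_iff] at e ⊢ <;>
      first
        | exact h2 e
        | exact h2 e.symm
        | exact h3 e
        | exact h3 e.symm
        | exact h1 e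
        | exact h1 e.symm
  have := Nat.card_le_card_of_injective f hf
  rw [Nat.card_fin] at this
  omega

/-- The cover. -/
theorem isStem : Cfsg.IsStemExtension σ0 := by
  haveI := finite_G0
  haveI := card_le.1
  haveI : Fact (Nat.Prime 3) := ⟨Nat.prime_three⟩
  haveI : IsCyclic σ0.ker := isCyclic_of_prime_card card_ker_σ0
  have hcomm : ∀ x y : σ0.ker, x * y = y * x := fun x y =>
    (IsCyclic.commGroup (α := σ0.ker)).mul_comm x y
  refine ⟨σ0_surjective, ?_, ?_⟩
  · -- central
    let f : ↥D0 →* Equiv.Perm σ0.ker := (MulAut.toPerm σ0.ker).comp MulAut.conjNormal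
    intro k hk
    refine Subgroup.mem_center_iff.mpr fun g => ?_
    have hg := small_trivial σ0_surjective f (by
      rw [Nat.card_perm, card_ker_σ0]; decide) (fun x hx => Equiv.ext fun y => Subtype.ext (by
        show (x : ↥D0) * (y : ↥D0) * (x : ↥D0)⁻¹ = y
        have h := congrArg Subtype.val (hcomm ⟨x, hx⟩ y)
        rw [Subgroup.coe_mul, Subgroup.coe_mul] at h
        rw [h, mul_inv_cancel_right])) g
    have h2 : g * k * g⁻¹ = k :=
      congrArg Subtype.val (congrArg (fun e : Equiv.Perm σ0.ker => e ⟨k, hk⟩) hg)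
    exact mul_inv_eq_iff_eq_mul.mp h2
  · -- inside the commutator subgroup
    have hmap : (commutator ↥D0).map σ0 = ⊤ := by
      rw [commutator_def ↥D0, Subgroup.map_commutator, Subgroup.map_top_of_surjective _ σ0_surjective]
      exact (commutator_def _).symm.trans commutator_simple
    by_contra hle
    have hbot : commutator ↥D0 ⊓ σ0.ker = ⊥ := by
      rcases Nat.Prime.eq_one_or_self_of_dvd Nat.prime_three _
        (card_ker_σ0 ▸ Subgroup.card_dvd_of_le (inf_le_right : commutator ↥D0 ⊓ σ0.ker ≤ σ0.ker)) with h | h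
      · exact Subgroup.card_eq_one.mp h
      · exact absurd (Subgroup.eq_of_le_of_card_ge inf_le_right (by rw [card_ker_σ0, h]) ▸ inf_le_left) hle
    have hcardC : Nat.card (commutator ↥D0) = Nat.card Cfsg.Spor.Fi24' := by
      refine Nat.card_eq_of_bijective (fun x => σ0 x.1) ⟨fun x y h => ?_, fun y => ?_⟩
      · have hm : (x : ↥D0)⁻¹ * y ∈ commutator ↥D0 ⊓ σ0.ker :=
          ⟨(commutator ↥D0).mul_mem ((commutator ↥D0).inv_mem x.2) y.2, by
            show σ0 ((x : ↥D0)⁻¹ * y) = 1
            rw [map_mul, map_inv, show σ0 x = σ0 y from h, inv_mul_cancel]⟩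
        rw [hbot, Subgroup.mem_bot, inv_mul_eq_one] at hm
        exact Subtype.ext hm
      · obtain ⟨x, hx, rfl⟩ : y ∈ (commutator ↥D0).map σ0 := hmap.symm ▸ Subgroup.mem_top y
        exact ⟨⟨x, hx⟩, rfl⟩
    set N := (commutator ↥D0).map D0.subtype with hN
    haveI : D0.Normal := (inferInstance : (sgn.comp π0).ker.Normal)
    haveI : N.Normal := ConjAct.normal_of_characteristic_of_normal
    have hQ : Nat.card (G0 ⧸ N) = 6 := by
      have h := N.card_eq_card_quotient_mul_card_subgroup
      have hNc : Nat.card N = 1255205709190661721292800 := by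
        rw [hN, Subgroup.card_map_of_injective D0.subtype_injective, hcardC]
        exact card_Fi24'
      rw [card_G0, hNc] at h
      omega
    set y : Nat → G0 ⧸ N := fun l => QuotientGroup.mk' N (fl Lg0 l)
    have hsq : ∀ l, y l * y l = 1 := fun l => by rw [← map_mul, frame0.sq, map_one]
    have hcom : ∀ a b, [a, b, a, b] ∈ rels0 → Commute (y a) (y b) := fun a b h => by
      have h := congrArg (QuotientGroup.mk' N) (frame0.rel _ h)
      simp only [ev_cons, ev_nil, mul_one, map_mul, map_one] at h
      show y a * y b = y b * y a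
      have e : y a * y b = (y a * y b)⁻¹ :=
        eq_inv_of_mul_eq_one_left (by rw [mul_assoc]; exact h)
      rw [e, mul_inv_rev, inv_eq_of_mul_eq_one_right (hsq a), inv_eq_of_mul_eq_one_right (hsq b)]
    have hbr : ∀ a b, [a, b, a, b, a, b] ∈ rels0 → (y a = 1 ↔ y b = 1) := fun a b h => by
      have h := congrArg (QuotientGroup.mk' N) (frame0.rel _ h)
      simp only [ev_cons, ev_nil, mul_one, map_mul, map_one] at h
      change y a * (y b * (y a * (y b * (y a * y b)))) = 1 at h
      constructor <;> intro e <;> rw [e] at h <;> simp only [one_mul, mul_one] at h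
      · rwa [hsq, mul_one] at h
      · rwa [hsq, mul_one] at h
    have e0 := hbr 0 1 (by decide +kernel); have e1 := hbr 1 2 (by decide +kernel)
    have e2 := hbr 2 3 (by decide +kernel); have e3 := hbr 3 4 (by decide +kernel)
    have e4 := hbr 4 5 (by decide +kernel); have e5 := hbr 5 6 (by decide +kernel)
    have e6 := hbr 6 7 (by decide +kernel); have e7 := hbr 7 8 (by decide +kernel)
    have e8 := hbr 8 9 (by decide +kernel); have e9 := hbr 5 10 (by decide +kernel)
    have e10 := hbr 10 11 (by decide +kernel)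
    have hall : ∀ l < 12, (y l = 1 ↔ y 0 = 1) := by
      have f1 := e0.symm
      have f2 := e1.symm.trans f1
      have f3 := e2.symm.trans f2
      have f4 := e3.symm.trans f3
      have f5 := e4.symm.trans f4
      have f6 := e5.symm.trans f5
      have f7 := e6.symm.trans f6
      have f8 := e7.symm.trans f7
      have f10 := e9.symm.trans f5
      intro l hl
      interval_cases l
      exacts [Iff.rfl, f1, f2, f3, f4, f5, f6, f7, f8, e8.symm.trans f8, f10, e10.symm.trans f10]
    have heq : ∀ a b, a < 12 → b < 12 → ([a, b, a, b] ∈ rels0 ∨ [b, a, b, a] ∈ rels0) → y a = y b := by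
      intro a b ha hb h
      have hc : Commute (y a) (y b) := h.elim (hcom a b) fun h => (hcom b a h).symm
      rcases six_comm hQ (hsq a) (hsq b) hc with e | e | e
      · exact e
      · rw [e, (hall b hb).mpr ((hall a ha).mp e)]
      · rw [e, (hall a ha).mpr ((hall b hb).mp e)]
    have hy : ∀ l < 12, y l = y 0 := by
      have h0 : ∀ l ∈ [2, 3, 4, 5, 6, 7, 8, 9, 10, 11],
          [0, l, 0, l] ∈ rels0 ∨ [l, 0, l, 0] ∈ rels0 := by decide +kernel
      have h3 : [1, 3, 1, 3] ∈ rels0 ∨ [3, 1, 3, 1] ∈ rels0 := by decide +kernel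
      have h : ∀ l ∈ [2, 3, 4, 5, 6, 7, 8, 9, 10, 11], y l = y 0 := fun l hl =>
        (heq 0 l (by norm_num)
          ((by decide : ∀ l ∈ [2, 3, 4, 5, 6, 7, 8, 9, 10, 11], l < 12) l hl) (h0 l hl)).symm
      intro l hl
      rcases eq_or_ne l 1 with rfl | h1
      · exact (heq 1 3 (by norm_num) (by norm_num) h3).trans (h 3 (by decide))
      · rcases eq_or_ne l 0 with rfl | h0'
        · rfl
        · exact h l (by simp only [List.mem_cons, List.not_mem_nil, or_false]; omega)
    have hle2 : Nat.card (G0 ⧸ N) ≤ 2 := by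
      have htop : Subgroup.zpowers (y 0) = ⊤ := by
        rw [eq_top_iff, ← Subgroup.map_top_of_surjective _ (QuotientGroup.mk'_surjective N),
          ← frame0.gen, Subgroup.map_le_iff_le_comap, Subgroup.closure_le]
        intro x hx
        obtain ⟨l, hl, rfl⟩ := List.getElem_of_mem hx
        rw [← List.getD_eq_getElem Lg0 1 hl, SetLike.mem_coe, Subgroup.mem_comap]
        show y l ∈ Subgroup.zpowers (y 0)
        rw [hy l (frame0.len ▸ hl)]
        exact Subgroup.mem_zpowers _
      rw [← Subgroup.card_top, ← htop, Nat.card_zpowers]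
      exact orderOf_le_of_pow_eq_one (by norm_num) (by rw [pow_two]; exact hsq 0)
    omega

theorem exists_cover :
    ∃ (Γ : Type) (_ : Group Γ) (_ : Finite Γ) (σ : Γ →* Cfsg.Spor.Fi24'),
      Cfsg.IsStemExtension σ ∧ Nonempty (σ.ker ≃* Multiplicative (ZMod 3)) := by
  haveI := finite_G0
  haveI : Fact (Nat.Prime 3) := ⟨Nat.prime_three⟩
  exact ⟨↥D0, inferInstance, inferInstance, σ0, isStem,
    ⟨mulEquivOfPrimeCardEq (p := 3) card_ker_σ0 (by
      rw [Nat.card_eq_fintype_card, Fintype.card_multiplicative, ZMod.card])⟩⟩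

end CfsgLib.Coset.Fi24.Schur
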