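import Cfsg.Agent.Coset.Fi24.Kappa
import Cfsg.Agent.Coset.Fi24.OTri

/-!
The points of the triple cover of `Cfsg.Spor.Fi24`: three over each point, moved by an extension of
`Fi23 × 2` by a group of order three which the odd elements invert. Over the third orbit the fibre
is twisted by the action of `K2` on three classes of points.
-/

set_option autoImplicit false
set_option maxRecDepth 100000
set_option Elab.async false
set_option linter.style.haveILetI false

namespace CfsgLib.Coset.Fi24.Schur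

open CfsgLib.Coset

theorem two_cases : ∀ e : Multiplicative (ZMod 2), e = 1 ∨ e = tau := by decide +kernel

/-- The sign of an element of `Fi23 × 2`, modulo 3. -/
def sg (a : A) : ZMod 3 := if a.2 = 1 then 1 else -1

theorem sg_mul (a b : A) : sg (a * b) = sg a * sg b := by
  have key : ∀ x y : Multiplicative (ZMod 2), (if x * y = 1 then (1 : ZMod 3) else -1) =
      (if x = 1 then (1 : ZMod 3) else -1) * (if y = 1 then (1 : ZMod 3) else -1) := by decide +kernel
  exact key a.2 b.2

theorem sg_one : sg 1 = 1 := if_pos rfl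

theorem sg_sq (a : A) : sg a * sg a = 1 := by
  unfold sg; split_ifs <;> decide

theorem sg_inv (a : A) : sg a⁻¹ = sg a := by
  calc sg a⁻¹ = sg a⁻¹ * (sg a * sg a) := by rw [sg_sq, mul_one]
    _ = sg (a⁻¹ * a) * sg a := by rw [sg_mul, mul_assoc]
    _ = sg a := by rw [inv_mul_cancel, sg_one, one_mul]

/-- The extension of `A` by three, inverted by the odd elements. -/
@[ext] structure Bx where
  /-- the translation -/
  z : ZMod 3
  /-- the element of `A` -/
  a : A

instance : Mul Bx := ⟨fun g h => ⟨g.z + sg g.a * h.z, g.a * h.a⟩⟩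
instance : One Bx := ⟨⟨0, 1⟩⟩
instance : Inv Bx := ⟨fun g => ⟨-(sg g.a * g.z), g.a⁻¹⟩⟩

theorem mul_def (g h : Bx) : g * h = ⟨g.z + sg g.a * h.z, g.a * h.a⟩ := rfl
theorem one_def : (1 : Bx) = ⟨0, 1⟩ := rfl
theorem inv_def (g : Bx) : g⁻¹ = ⟨-(sg g.a * g.z), g.a⁻¹⟩ := rfl

noncomputable instance : Group Bx :=
  Group.ofLeftAxioms
    (fun f g h => by
      simp only [mul_def, sg_mul, mul_assoc]
      congr 1
      ring)
    (fun g => by simp only [mul_def, one_def, sg_one, zero_add, one_mul])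
    (fun g => by simp only [mul_def, inv_def, one_def, sg_inv, neg_add_cancel, inv_mul_cancel])

instance : Finite Bx :=
  haveI := card_A.1
  Finite.of_injective (fun g : Bx => (g.z, g.a)) fun g h e =>
    Bx.ext (congrArg Prod.fst e) (congrArg Prod.snd e)

/-- `A` inside the extension. -/
noncomputable def inB : A →* Bx :=
  MonoidHom.mk' (fun a => ⟨0, a⟩) fun a b => by simp [mul_def]

theorem inB_apply (a : A) : inB a = ⟨0, a⟩ := rfl

/-- The projection to `A`. -/
noncomputable def toA : Bx →* A := MonoidHom.mk' (fun g => g.a) fun _ _ => rfl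

/-- A value in `Fin 3`, modulo 3. -/
def z3 (j : Fin 3) : ZMod 3 := (j.val : ℕ)

/-- The action of `K2` on three classes. -/
noncomputable def χ : ↥K2 →* Equiv.Perm (Fin 3) :=
  OE.ψ.comp (((MonoidHom.fst Cfsg.Spor.Fi23 (Multiplicative (ZMod 2))).comp K2.subtype).codRestrict
    OE.K2f fun x => OE.K2f_eq ▸ ⟨x.1, x.2, rfl⟩)

open scoped Classical in
/-- The translation part of the action of `K2` on the classes. -/
noncomputable def eK (a : A) : ZMod 3 := if h : a ∈ K2 then z3 (χ ⟨a, h⟩ 0) else 0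

theorem eK_of_mem (x : ↥K2) : eK x = z3 (χ x 0) := dif_pos x.2

theorem len_gK : gK.length = 10 := by decide +kernel

theorem χ_gen (g : Fin 10) (h : ev la (gK.getD g []) ∈ K2) (j : Fin 3) :
    χ ⟨ev la (gK.getD g []), h⟩ j = OE.genMap g j := by
  rw [← OE.ψ_gk]
  refine congrArg (fun x => OE.ψ x j) (Subtype.ext ?_)
  show (ev la (gK.getD g [])).1 = ev Fi23.Lg (OE.gK'.getD g [])
  have hg : (g : Nat) < gK.length := len_gK.symm ▸ g.2
  rw [fst_ev, OE.gK', List.getD_eq_getElem _ _ hg,
    List.getD_eq_getElem _ _ (by rw [List.length_map]; exact hg), List.getElem_map]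

theorem sg_ev (w : List Nat) : sg (ev la w) = ((par2 w + 1 : Nat) : ZMod 3) := by
  have h2 : par2 w < 2 := Nat.mod_lt _ (by norm_num)
  rw [sg, ev_la]
  show (if tau ^ par2 w = 1 then (1 : ZMod 3) else -1) = _
  rcases (by omega : par2 w = 0 ∨ par2 w = 1) with h | h <;> rw [h] <;> decide +kernel

/-- The action on the classes is affine. -/
theorem χ_affine (x : A) (hx : x ∈ K2) :
    ∀ j, z3 (χ ⟨x, hx⟩ j) = sg x * z3 j + z3 (χ ⟨x, hx⟩ 0) := by
  induction hx using Subgroup.closure_induction with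
  | mem y hy =>
    obtain ⟨w, hw, rfl⟩ := hy
    obtain ⟨g, hg, rfl⟩ := List.getElem_of_mem hw
    have hg' : g < 10 := len_gK ▸ hg
    have hk : ev la (gK.getD g []) ∈ K2 := by
      rw [List.getD_eq_getElem _ _ hg]; exact ev_mem_genW (List.getElem_mem hg)
    suffices h : ∀ (y : A) (hy : y ∈ K2), y = ev la (gK.getD g []) →
        ∀ j, z3 (χ ⟨y, hy⟩ j) = sg y * z3 j + z3 (χ ⟨y, hy⟩ 0) from
      h _ _ (by rw [List.getD_eq_getElem _ _ hg])
    rintro y hy rfl j
    have key : ∀ (g : Fin 10) (j : Fin 3), z3 (OE.genMap g j) =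
        ((par2 (gK.getD g []) + 1 : Nat) : ZMod 3) * z3 j + z3 (OE.genMap g 0) := by decide +kernel
    have h0 := χ_gen ⟨g, hg'⟩ hk
    simp only at h0
    rw [h0, h0, sg_ev]
    exact key ⟨g, hg'⟩ j
  | one =>
    intro j
    rw [show (⟨1, one_mem K2⟩ : ↥K2) = 1 from rfl, map_one, sg_one, one_mul]
    simp [z3]
  | mul a b ha hb iha ihb =>
    intro j
    rw [show (⟨a * b, mul_mem ha hb⟩ : ↥K2) = ⟨a, ha⟩ * ⟨b, hb⟩ from rfl, map_mul,
      Equiv.Perm.mul_apply, Equiv.Perm.mul_apply, iha, iha (χ ⟨b, hb⟩ 0), ihb, sg_mul]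
    ring
  | inv a ha iha =>
    intro j
    have key : ∀ k, z3 k = sg a * z3 (χ ⟨a⁻¹, inv_mem ha⟩ k) + z3 (χ ⟨a, ha⟩ 0) := by
      intro k
      rw [← iha, ← Equiv.Perm.mul_apply, ← map_mul,
        show (⟨a, ha⟩ : ↥K2) * ⟨a⁻¹, inv_mem ha⟩ = 1 from Subtype.ext (mul_inv_cancel a), map_one]
      rfl
    have h1 := key j
    have h2 : z3 (χ ⟨a, ha⟩ 0) = - (sg a * z3 (χ ⟨a⁻¹, inv_mem ha⟩ 0)) := by
      have := key 0
      rw [show z3 0 = 0 from rfl] at this
      exact eq_neg_of_add_eq_zero_right this.symm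
    have hs := sg_sq a
    rw [sg_inv]
    linear_combination -(sg a) * h1 - (sg a) * h2 + (z3 (χ ⟨a⁻¹, inv_mem ha⟩ 0) - z3 (χ ⟨a⁻¹, inv_mem ha⟩ j)) * hs

theorem eK_mul {x y : A} (hx : x ∈ K2) (hy : y ∈ K2) : eK (x * y) = eK x + sg x * eK y := by
  have h1 := eK_of_mem (⟨x, hx⟩ * ⟨y, hy⟩)
  rw [map_mul, Equiv.Perm.mul_apply, χ_affine x hx] at h1
  rw [show eK x = z3 (χ ⟨x, hx⟩ 0) from eK_of_mem ⟨x, hx⟩,
    show eK y = z3 (χ ⟨y, hy⟩ 0) from eK_of_mem ⟨y, hy⟩, add_comm]
  exact h1

theorem eK_one : eK 1 = 0 := by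
  have h := eK_of_mem (1 : ↥K2)
  rw [map_one] at h
  exact h.trans rfl

theorem eK_inv {x : A} (hx : x ∈ K2) : eK x⁻¹ = -(sg x * eK x) := by
  have h := eK_mul (inv_mem hx) hx
  rw [inv_mul_cancel, eK_one, sg_inv] at h
  exact eq_neg_of_add_eq_zero_left h.symm

section Kernel

/-- The translation part of a word over `gK`. -/
noncomputable def eW (v : List Nat) : Nat :=
  List.rec (motive := fun _ => Nat) 0 (fun g _ ih =>
    cond (Nat.ble g 8) (Nat.mod (Nat.mul 2 ih) 3)
      (cond (Nat.beq g 9) (Nat.mod (Nat.add 1 (Nat.mul 2 ih)) 3) ih)) v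

/-- The translation when one code is replaced by another. -/
noncomputable def jEq (x y : Nat × List Nat) (c : List Nat) (j : Nat) : Nat :=
  cond (Nat.ble x.1 1) j
    (Nat.mod (Nat.add j (Nat.mul 2 (Nat.mul (Nat.add (par2 y.2) 1) (eW c.reverse)))) 3)

/-- Follow a word from a code with its translation. -/
noncomputable def walk3 (X Y : List (Nat × List Nat)) (word : List Nat)
    (steps : List (Nat × List Nat × List Nat)) (k : Nat) (w : List Nat) (j : Nat)
    (fin : Nat × List Nat) (endc : List Nat) (jf : Nat) : Bool :=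
  List.rec (motive := fun _ => List (Nat × List Nat × List Nat) → Nat → List Nat → Nat → Bool)
    (fun _ k w j => cond (eqPt (k, w) fin endc) (Nat.beq (Nat.mod (jEq (k, w) fin endc j) 3) jf) false)
    (fun l _ ih steps k w j =>
      cond (Nat.beq l 1)
        (List.rec false (fun s rest _ =>
          cond (cond (Nat.ble (Nat.add s.1 1) X.length) (eqPt (k, w)
              ((X.getD s.1 (0, [])).1, (X.getD s.1 (0, [])).2 ++ expW gK s.2.1) s.2.2) false)
            (ih rest (Y.getD s.1 (0, [])).1 ((Y.getD s.1 (0, [])).2 ++ expW gK s.2.1)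
              (Nat.mod (Nat.add (Nat.mul 2 (jEq (k, w)
                  ((X.getD s.1 (0, [])).1, (X.getD s.1 (0, [])).2 ++ expW gK s.2.1) s.2.2 j))
                (eW s.2.1.reverse)) 3)) false) steps)
        (ih steps k (w ++ [l]) (Nat.mod (Nat.mul (Nat.add (par2 [l]) 1) j) 3))) word steps k w j

end Kernel

theorem eW_eq : ∀ v : List Nat, (eW v : ZMod 3) = eK (ev la (expW gK v)) := by
  intro v
  induction v with
  | nil => simp [expW, eK_one, eW]
  | cons g v ih =>
    show ((cond (Nat.ble g 8) (Nat.mod (Nat.mul 2 (eW v)) 3)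
      (cond (Nat.beq g 9) (Nat.mod (Nat.add 1 (Nat.mul 2 (eW v))) 3) (eW v)) : Nat) : ZMod 3) = _
    rw [show expW gK (g :: v) = gK.getD g [] ++ expW gK v by simp [expW], ev_append]
    rcases lt_or_ge g 10 with hg | hg
    · have hg' : g < gK.length := len_gK.symm ▸ hg
      have hk : ev la (gK.getD g []) ∈ K2 := by
        rw [List.getD_eq_getElem _ _ hg']; exact ev_mem_genW (List.getElem_mem hg')
      rw [eK_mul hk (ev_expW_mem la gK v), sg_ev,
        show eK (ev la (gK.getD g [])) = z3 (χ ⟨_, hk⟩ 0) from eK_of_mem ⟨_, hk⟩,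
        show z3 (χ ⟨_, hk⟩ 0) = z3 (OE.genMap ⟨g, hg⟩ 0) from congrArg z3 (χ_gen ⟨g, hg⟩ hk 0), ← ih]
      have key : ∀ g : Fin 10, z3 (OE.genMap g 0) = ((cond (Nat.ble g 8) 0 1 : Nat) : ZMod 3) ∧
          par2 (gK.getD g []) = 1 := by decide +kernel
      obtain ⟨k1, k2⟩ := key ⟨g, hg⟩
      rw [k1, k2]
      cases hb : Nat.ble g 8
      · simp only [hb, cond_false]
        have h9 : g = 9 := by
          by_contra h
          rw [Nat.ble_eq.mpr (show g ≤ 8 by omega)] at hb
          exact absurd hb (by decide)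
        subst h9
        show ((((1 + 2 * eW v) % 3 : Nat)) : ZMod 3) = _
        rw [ZMod.natCast_mod]; push_cast; ring
      · simp only [hb, cond_true]
        show (((2 * eW v % 3 : Nat)) : ZMod 3) = _
        rw [ZMod.natCast_mod]; push_cast; ring
    · rw [List.getD_eq_default _ _ (len_gK.symm ▸ hg), ev_nil, one_mul, ← ih]
      have b1 : Nat.ble g 8 = false :=
        Bool.eq_false_iff.mpr fun h => by have := Nat.ble_eq.mp h; omega
      have b2 : Nat.beq g 9 = false :=
        Bool.eq_false_iff.mpr fun h => by have := Nat.eq_of_beq_eq_true h; omega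
      rw [b1, b2]
      rfl

theorem expW_reverse (c : List Nat) : (expW gK c).reverse = expW gK c.reverse := by
  induction c with
  | nil => rfl
  | cons g c ih =>
    have hg : (gK.getD g []).reverse = gK.getD g [] := by
      rcases lt_or_ge g gK.length with h | h
      · rw [List.getD_eq_getElem _ _ h]; exact gK_pal _ (List.getElem_mem h)
      · rw [List.getD_eq_default _ _ h]; rfl
    simp only [expW, List.flatMap_cons, List.reverse_append, List.reverse_cons, List.flatMap_append,
      List.flatMap_nil, List.append_nil] at ih ⊢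
    rw [ih, hg]

/-- The twisted copy of `K2`. -/
noncomputable def K2h : Subgroup Bx where
  carrier := {g | g.a ∈ K2 ∧ g.z = eK g.a}
  one_mem' := ⟨one_mem K2, eK_one.symm⟩
  mul_mem' := by
    rintro g h ⟨hg, eg⟩ ⟨hh, eh⟩
    refine ⟨mul_mem hg hh, ?_⟩
    show g.z + sg g.a * h.z = eK (g.a * h.a)
    rw [eK_mul hg hh, eg, eh]
  inv_mem' := by
    rintro g ⟨hg, eg⟩
    refine ⟨inv_mem hg, ?_⟩
    show -(sg g.a * g.z) = eK g.a⁻¹
    rw [eK_inv hg, eg]

/-- The points. -/
abbrev Om3 : Type := (Option (Fin 31671) × ZMod 3) ⊕ Bx ⧸ K2h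

/-- The movement of the points. -/
noncomputable def actF (g : Bx) : Om3 → Om3 :=
  Sum.map (fun x => (x.1.map (σA g.a), g.z + sg g.a * x.2)) (fun q => g • q)

theorem actF_one (x : Om3) : actF 1 x = x := by
  rcases x with ⟨o, j⟩ | q
  · show Sum.inl (o.map (σA (1 : A)), (0 : ZMod 3) + sg 1 * j) = _
    rw [map_one, sg_one, zero_add, one_mul]
    cases o <;> rfl
  · exact congrArg Sum.inr (one_smul Bx q)

theorem actF_mul (g h : Bx) (x : Om3) : actF (g * h) x = actF g (actF h x) := by
  rcases x with ⟨o, j⟩ | q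
  · show Sum.inl (o.map (σA (g.a * h.a)), g.z + sg g.a * h.z + sg (g.a * h.a) * j) =
      Sum.inl ((o.map (σA h.a)).map (σA g.a), g.z + sg g.a * (h.z + sg h.a * j))
    rw [map_mul, sg_mul]
    refine congrArg Sum.inl (Prod.ext ?_ (by ring))
    cases o <;> rfl
  · exact congrArg Sum.inr (mul_smul g h q)

/-- The action on the points. -/
noncomputable def act3 : Bx →* Equiv.Perm Om3 :=
  MonoidHom.mk' (fun g => ⟨actF g, actF g⁻¹,
      fun x => by rw [← actF_mul, inv_mul_cancel, actF_one],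
      fun x => by rw [← actF_mul, mul_inv_cancel, actF_one]⟩)
    fun g h => Equiv.ext fun x => actF_mul g h x

theorem act3_inl (g : Bx) (o : Option (Fin 31671)) (j : ZMod 3) :
    act3 g (.inl (o, j)) = .inl (o.map (σA g.a), g.z + sg g.a * j) := rfl

theorem act3_inr (g h : Bx) :
    act3 g (.inr (QuotientGroup.mk h)) = .inr (QuotientGroup.mk (g * h)) := rfl

/-- The base points of the three kinds. -/
noncomputable def bpt3 : Nat → Om3
  | 0 => .inl (none, 0)
  | 1 => .inl (some ⟨0, by decide⟩, 0)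
  | _ => .inr (QuotientGroup.mk (1 : Bx))

/-- The point with a code and a translation. -/
noncomputable def pt3 (x : Nat × List Nat) (j : ZMod 3) : Om3 :=
  act3 ⟨j, (ev la x.2)⁻¹⟩ (bpt3 x.1)

theorem act3_pt3 (g : Bx) (x : Nat × List Nat) (j : ZMod 3) :
    act3 g (pt3 x j) = act3 ⟨g.z + sg g.a * j, g.a * (ev la x.2)⁻¹⟩ (bpt3 x.1) := by
  rw [pt3, ← Equiv.Perm.mul_apply, ← map_mul, mul_def]

theorem pt3_move (x : Nat × List Nat) (v : List Nat) (j i : ZMod 3) :
    act3 ⟨j, (ev la v)⁻¹⟩ (pt3 x i) = pt3 (x.1, x.2 ++ v) (j + sg (ev la v) * i) := by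
  rw [act3_pt3, pt3]
  simp only [ev_append, mul_inv_rev, sg_inv]

/-- The point below. -/
noncomputable def proj3 : Om3 → Om :=
  Sum.elim (fun x => x.1.map Sum.inl)
    (Quotient.lift (fun g : Bx => (some (.inr (QuotientGroup.mk g.a)) : Om)) fun g h hgh => by
      have h1 : (g⁻¹ * h).a ∈ K2 := (QuotientGroup.leftRel_apply.mp hgh).1
      exact congrArg some (congrArg Sum.inr (QuotientGroup.eq.mpr h1)))

theorem proj3_act (g : Bx) (x : Om3) : proj3 (act3 g x) = act g.a (proj3 x) := by
  rcases x with ⟨o, j⟩ | q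
  · rw [act3_inl]
    cases o <;> rfl
  · induction q using QuotientGroup.induction_on with
    | _ h => rw [act3_inr]; rfl

theorem proj3_bpt : ∀ k, proj3 (bpt3 k) = bpt k
  | 0 => rfl
  | 1 => rfl
  | _ + 2 => rfl

theorem proj3_pt (x : Nat × List Nat) (j : ZMod 3) : proj3 (pt3 x j) = pt x := by
  rw [pt3, proj3_act, proj3_bpt, pt, map_inv]

theorem proj3_fibre {x y : Om3} (h : proj3 x = proj3 y) : ∃ d, act3 ⟨d, 1⟩ x = y := by
  rcases x with ⟨o, j⟩ | q <;> rcases y with ⟨o', j'⟩ | q'
  · refine ⟨j' - j, ?_⟩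
    have e : o = o' := Option.map_injective Sum.inl_injective h
    subst e
    rw [act3_inl, sg_one, one_mul, sub_add_cancel, map_one]
    cases o <;> rfl
  · induction q' using QuotientGroup.induction_on with
    | _ g =>
      cases o with
      | none => exact absurd h (by intro e; cases e)
      | some p => exact absurd h (by intro e; cases e)
  · induction q using QuotientGroup.induction_on with
    | _ g =>
      cases o' with
      | none => exact absurd h (by intro e; cases e)
      | some p => exact absurd h (by intro e; cases e)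
  · induction q using QuotientGroup.induction_on with
    | _ g =>
      induction q' using QuotientGroup.induction_on with
      | _ g' =>
        have hk : g.a⁻¹ * g'.a ∈ K2 := QuotientGroup.eq.mp
          (Sum.inr_injective (Option.some_injective _ h))
        refine ⟨g'.z - g.z + sg g'.a * eK (g'.a⁻¹ * g.a), ?_⟩
        rw [act3_inr]
        refine congrArg Sum.inr (QuotientGroup.eq.mpr ?_).symm
        refine ⟨?_, ?_⟩
        · show g'.a⁻¹ * (1 * g.a) ∈ K2
          have := inv_mem hk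
          simpa [mul_inv_rev] using this
        · show -(sg g'.a * g'.z) + sg g'.a⁻¹ *
            (g'.z - g.z + sg g'.a * eK (g'.a⁻¹ * g.a) + sg (1 : A) * g.z) = eK (g'.a⁻¹ * (1 * g.a))
          rw [sg_inv, sg_one, one_mul, one_mul]
          linear_combination (eK (g'.a⁻¹ * g.a)) * sg_sq g'.a

theorem act3_free {d : ZMod 3} {x : Om3} (h : act3 ⟨d, 1⟩ x = x) : d = 0 := by
  rcases x with ⟨o, j⟩ | q
  · rw [act3_inl, sg_one, one_mul] at h
    simpa using congrArg Prod.snd (Sum.inl_injective h)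
  · induction q using QuotientGroup.induction_on with
    | _ g =>
      rw [act3_inr] at h
      obtain ⟨-, h2⟩ := QuotientGroup.eq.mp (Sum.inr_injective h).symm
      have h2 : -(sg g.a * g.z) + sg g.a⁻¹ * (d + sg (1 : A) * g.z) = eK (g.a⁻¹ * (1 * g.a)) := h2
      rw [one_mul, inv_mul_cancel, eK_one, sg_inv, sg_one, one_mul] at h2
      linear_combination (sg g.a) * h2 - d * sg_sq g.a

theorem pt3_eq {x y : Nat × List Nat} {c : List Nat} (h : eqPt x y c = true) (j : Nat) :
    pt3 x j = pt3 y (jEq x y c j : Nat) := by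
  have hpt := pt_eq h
  obtain ⟨k, w⟩ := x
  obtain ⟨k', v⟩ := y
  unfold eqPt at h
  rw [cond_false_eq_true] at h
  obtain ⟨hk, h⟩ := h
  have hk' : k = k' := Nat.eq_of_beq_eq_true hk
  subst hk'
  match k with
  | 0 =>
    show act3 _ (.inl (none, 0)) = act3 _ (.inl (none, 0))
    rw [act3_inl, act3_inl]
    simp only [mul_zero, add_zero]
    rfl
  | 1 =>
    show act3 _ (.inl (some _, 0)) = act3 _ (.inl (some _, 0))
    rw [act3_inl, act3_inl]
    have hp : proj3 (pt3 (1, w) (j : ZMod 3)) = proj3 (pt3 (1, v) (j : ZMod 3)) := by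
      rw [proj3_pt, proj3_pt, hpt]
    have hp' : (some (Sum.inl (σA ((ev la w)⁻¹) ⟨0, by decide⟩)) : Om) =
        some (Sum.inl (σA ((ev la v)⁻¹) ⟨0, by decide⟩)) := hp
    refine congrArg Sum.inl (Prod.ext (congrArg some (Sum.inl_injective (Option.some_injective _ hp'))) ?_)
    simp only [mul_zero, add_zero]
    rfl
  | m + 2 =>
    change oneA (expW gK c ++ (w ++ v.reverse).reverse) = true at h
    have h1 := eq_one_of_oneA h
    rw [ev_append, ev_reverse_la, mul_inv_eq_one, ev_append, ev_reverse_la] at h1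
    set u := ev la (expW gK c.reverse) with hu
    have hu' : u = (ev la (expW gK c))⁻¹ := by rw [hu, ← expW_reverse, ev_reverse_la]
    have hK : u ∈ K2 := ev_expW_mem la gK _
    have hw : (ev la w)⁻¹ = (ev la v)⁻¹ * u := by rw [hu', h1]; group
    show act3 _ (.inr (QuotientGroup.mk 1)) = act3 _ (.inr (QuotientGroup.mk 1))
    rw [act3_inr, act3_inr, mul_one, mul_one]
    refine congrArg Sum.inr (QuotientGroup.eq.mpr ⟨?_, ?_⟩)
    · show ((ev la w)⁻¹)⁻¹ * (ev la v)⁻¹ ∈ K2
      rw [hw]
      simpa using inv_mem hK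
    · show -(sg (ev la w)⁻¹ * (j : ZMod 3)) + sg ((ev la w)⁻¹)⁻¹ *
        ((jEq (m + 2, w) (m + 2, v) c j : Nat) : ZMod 3) = eK (((ev la w)⁻¹)⁻¹ * (ev la v)⁻¹)
      rw [hw, show (((ev la v)⁻¹ * u))⁻¹ * (ev la v)⁻¹ = u⁻¹ by group, sg_inv, sg_mul, sg_inv,
        eK_inv hK]
      have hj : jEq (m + 2, w) (m + 2, v) c j =
          (j + 2 * ((par2 v + 1) * eW c.reverse)) % 3 := by
        unfold jEq
        have b1 : Nat.ble (m + 2) 1 = false :=
          Bool.eq_false_iff.mpr fun h => by have := Nat.ble_eq.mp h; omega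
        rw [b1]
        rfl
      rw [hj, ZMod.natCast_mod, Nat.cast_add, Nat.cast_mul, Nat.cast_mul, ← sg_ev, eW_eq, ← hu,
        show ((2 : Nat) : ZMod 3) = -1 from by decide]
      linear_combination -(sg u * eK u) * sg_sq (ev la v)

/-- The permutations of the twelve letters, given one for `k`. -/
noncomputable def LP3 (κ : Equiv.Perm Om3) : List (Equiv.Perm Om3) :=
  (List.range 12).map fun l => if l = 1 then κ else act3 (inB (fl la l))

theorem fl_LP3_one (κ : Equiv.Perm Om3) : fl (LP3 κ) 1 = κ := by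
  simp [fl, LP3, List.getD_eq_getElem?_getD]

theorem fl_LP3 (κ : Equiv.Perm Om3) {l : Nat} (h : l ≠ 1) :
    fl (LP3 κ) l = act3 (inB (fl la l)) := by
  rcases lt_or_ge l 12 with hl | hl
  · simp [fl, LP3, List.getD_eq_getElem?_getD, hl, h]
  · rw [fl_of_le _ (by simp [LP3, hl]), fl_of_le _ (len_la ▸ hl), map_one, map_one]

theorem ev_LP3 (κ : Equiv.Perm Om3) : ∀ w : List Nat, (∀ x ∈ w, x ≠ 1) →
    ev (LP3 κ) w = act3 (inB (ev la w)) := by
  intro w
  induction w with
  | nil => simp
  | cons x w ih =>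
    intro hw
    rw [ev_cons, ev_cons, map_mul, map_mul, fl_LP3 κ (hw x (by simp)),
      ih fun y hy => hw y (by simp [hy])]

/-- The twist by `k`. -/
noncomputable def φB (g : Bx) : Bx := ⟨-g.z + eK g.a, g.a⟩

theorem walk3_sound {κ : Equiv.Perm Om3} {X Y : List (Nat × List Nat)}
    (hκ : ∀ i < X.length, ∀ g : Bx, g.a ∈ K2 →
      κ (act3 g (pt3 (X.getD i (0, [])) 0)) = act3 (φB g) (pt3 (Y.getD i (0, [])) 0))
    (hκ2 : κ * κ = 1) : ∀ (word : List Nat) (steps : List (Nat × List Nat × List Nat)) (k : Nat)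
      (w : List Nat) (j : Nat) (fin : Nat × List Nat) (endc : List Nat) (jf : Nat),
      walk3 X Y word steps k w j fin endc jf = true →
        (ev (LP3 κ) word)⁻¹ (pt3 (k, w) j) = pt3 fin jf := by
  intro word
  induction word with
  | nil =>
    intro steps k w j fin endc jf h
    change cond _ (Nat.beq _ _) false = true at h
    rw [cond_false_eq_true] at h
    rw [ev_nil, inv_one, Equiv.Perm.one_apply, pt3_eq h.1,
      ← Nat.eq_of_beq_eq_true h.2]
    exact congrArg (pt3 fin) (ZMod.natCast_mod _ _).symm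
  | cons l word ih =>
    intro steps k w j fin endc jf h
    rw [ev_cons, mul_inv_rev, Equiv.Perm.mul_apply]
    unfold walk3 at h
    change cond (Nat.beq l 1) _ (walk3 X Y word steps k (w ++ [l])
      (Nat.mod (Nat.mul (Nat.add (par2 [l]) 1) j) 3) fin endc jf) = true at h
    cases hl : Nat.beq l 1
    · rw [hl, cond_false] at h
      rw [fl_LP3 κ (Nat.ne_of_beq_eq_false hl), ← map_inv, ← map_inv, inB_apply,
        show ((fl la l)⁻¹ : A) = (ev la [l])⁻¹ by simp, pt3_move, zero_add]
      have := ih _ _ _ _ _ _ _ h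
      convert this using 3
      rw [sg_ev]
      exact ((ZMod.natCast_mod _ _).trans (Nat.cast_mul _ _)).symm
    · rw [hl, cond_true] at h
      rw [Nat.eq_of_beq_eq_true hl, fl_LP3_one]
      match steps with
      | [] => simp at h
      | s :: rest =>
        change cond (cond _ _ false) (walk3 X Y word rest _ _ _ fin endc jf) false = true at h
        simp only [cond_false_eq_true] at h
        obtain ⟨⟨hi, he⟩, h⟩ := h
        have hinv : κ⁻¹ = κ := inv_eq_of_mul_eq_one_right hκ2
        set j1 := jEq (k, w) ((X.getD s.1 (0, [])).1, (X.getD s.1 (0, [])).2 ++ expW gK s.2.1) s.2.2 j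
        have hm := pt3_move (X.getD s.1 (0, [])) (expW gK s.2.1) (j1 : ZMod 3) 0
        rw [mul_zero, add_zero] at hm
        rw [hinv, pt3_eq he, ← hm, hκ _ (Nat.ble_eq.mp hi) ⟨(j1 : ZMod 3), (ev la (expW gK s.2.1))⁻¹⟩
            (inv_mem (ev_expW_mem la gK s.2.1))]
        have := ih _ _ _ _ _ _ _ h
        rw [φB, pt3_move, mul_zero, add_zero]
        convert this using 3
        show -(j1 : ZMod 3) + eK (ev la (expW gK s.2.1))⁻¹ =
          (((2 * j1 + eW s.2.1.reverse) % 3 : Nat) : ZMod 3)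
        rw [ZMod.natCast_mod, Nat.cast_add, Nat.cast_mul, eW_eq, ← expW_reverse, ev_reverse_la,
          show ((2 : Nat) : ZMod 3) = -1 from by decide, neg_one_mul]

end CfsgLib.Coset.Fi24.Schur
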