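import Cfsg.Agent.Coset.Fi24Schur.Stem
import Cfsg.Agent.Coset.Fi24Schur.Lifts
import Mathlib.GroupTheory.SemidirectProduct

/-!
Every stem extension of the simple group has a kernel of order dividing three.
-/

set_option autoImplicit false
set_option maxRecDepth 100000
set_option Elab.async false
set_option linter.style.haveILetI false

namespace CfsgLib.Coset.Fi24.Schur

open CfsgLib.Coset
open scoped commutatorElement

/-- The outer automorphism of the simple group. -/
noncomputable def twist : MulAut Cfsg.Spor.Fi24' := MulAut.conjNormal s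

theorem coe_twist (x : Cfsg.Spor.Fi24') :
    ((twist x : Cfsg.Spor.Fi24') : Cfsg.Spor.Fi24) = s * x * s⁻¹ := MulAut.conjNormal_apply s x

theorem twist_twist (x : Cfsg.Spor.Fi24') : twist (twist x) = x := by
  refine Subtype.ext ?_
  rw [coe_twist, coe_twist, inv_eq_of_mul_eq_one_right s_sq]
  calc s * (s * (x : Cfsg.Spor.Fi24) * s) * s = (s * s) * x * (s * s) := by group
    _ = x := by rw [s_sq, one_mul, mul_one]

/-- Multiplying by central elements leaves commutators unchanged. -/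
theorem commutator_central {P : Type*} [Group P] {a a' b b' : P}
    (ha : ∀ x, Commute x (a'⁻¹ * a)) (hb : ∀ x, Commute x (b'⁻¹ * b)) : ⁅a, b⁆ = ⁅a', b'⁆ := by
  have h1 : ∀ a a' : P, (∀ x, Commute x (a'⁻¹ * a)) → ∀ b : P, ⁅a, b⁆ = ⁅a', b⁆ := by
    intro a a' hz b
    have e : a = a' * (a'⁻¹ * a) := by group
    rw [e]
    generalize a'⁻¹ * a = z at hz
    simp only [commutatorElement_def, mul_inv_rev]
    calc a' * z * b * (z⁻¹ * a'⁻¹) * b⁻¹ = a' * (z * b) * z⁻¹ * a'⁻¹ * b⁻¹ := by group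
      _ = a' * (b * z) * z⁻¹ * a'⁻¹ * b⁻¹ := by rw [(hz b).eq]
      _ = a' * b * a'⁻¹ * b⁻¹ := by group
  rw [h1 a a' ha b, ← commutatorElement_inv b a', h1 b b' hb a', commutatorElement_inv]

section

variable {Γ : Type} [Group Γ] (σ : Γ →* Cfsg.Spor.Fi24')

/-- Pairs over a pair exchanged by the twist. -/
noncomputable def pairsOf : Subgroup (Γ × Γ) :=
  (σ.comp (MonoidHom.fst Γ Γ)).eqLocus ((twist.toMonoidHom.comp σ).comp (MonoidHom.snd Γ Γ))

variable {σ}

theorem mem_pairsOf {p : Γ × Γ} : p ∈ pairsOf σ ↔ σ p.1 = twist (σ p.2) := Iff.rfl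

theorem swap_mem {p : Γ × Γ} (h : p ∈ pairsOf σ) : p.swap ∈ pairsOf σ := by
  rw [mem_pairsOf] at h ⊢
  show σ p.2 = twist (σ p.1)
  rw [h, twist_twist]

variable (σ)

/-- Its derived group. -/
noncomputable def dPairs : Subgroup (Γ × Γ) := ⁅pairsOf σ, pairsOf σ⁆

theorem dPairs_le : dPairs σ ≤ pairsOf σ := Subgroup.commutator_le_self _

theorem map_swap : (dPairs σ).map (MulEquiv.prodComm : Γ × Γ ≃* Γ × Γ).toMonoidHom = dPairs σ := by
  have h : (pairsOf σ).map (MulEquiv.prodComm : Γ × Γ ≃* Γ × Γ).toMonoidHom = pairsOf σ := by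
    refine le_antisymm ?_ fun p hp => ⟨p.swap, swap_mem hp, Prod.swap_swap p⟩
    rintro _ ⟨p, hp, rfl⟩
    exact swap_mem hp
  rw [dPairs, Subgroup.map_commutator, h]

theorem swap_mem_dPairs {p : Γ × Γ} (h : p ∈ dPairs σ) : p.swap ∈ dPairs σ := by
  rw [← map_swap σ]
  exact ⟨p, h, rfl⟩

/-- The exchange on the derived group. -/
noncomputable def exch : MulAut ↥(dPairs σ) where
  toFun d := ⟨d.1.swap, swap_mem_dPairs σ d.2⟩
  invFun d := ⟨d.1.swap, swap_mem_dPairs σ d.2⟩
  left_inv d := Subtype.ext (Prod.swap_swap _)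
  right_inv d := Subtype.ext (Prod.swap_swap _)
  map_mul' _ _ := Subtype.ext rfl

theorem exch_sq : exch σ * exch σ = 1 :=
  MulEquiv.ext fun d => Subtype.ext (Prod.swap_swap d.1)

/-- The map onto the simple group. -/
noncomputable def dMap : ↥(dPairs σ) →* Cfsg.Spor.Fi24' :=
  (σ.comp (MonoidHom.fst Γ Γ)).comp (dPairs σ).subtype

theorem dMap_apply (d : ↥(dPairs σ)) : dMap σ d = σ d.1.1 := rfl

variable {σ}

theorem dMap_surjective (hσ : Function.Surjective σ) : Function.Surjective (dMap σ) := by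
  intro g
  have h : (pairsOf σ).map (σ.comp (MonoidHom.fst Γ Γ)) = ⊤ := eq_top_iff.mpr fun g _ => by
    obtain ⟨a, rfl⟩ := hσ g
    obtain ⟨b, hb⟩ := hσ (twist (σ a))
    exact ⟨(a, b), by rw [SetLike.mem_coe, mem_pairsOf, hb, twist_twist], rfl⟩
  have hd : (dPairs σ).map (σ.comp (MonoidHom.fst Γ Γ)) = ⊤ := by
    rw [dPairs, Subgroup.map_commutator, h]
    exact (commutator_def _).symm.trans commutator_simple
  obtain ⟨d, hd, rfl⟩ : g ∈ (dPairs σ).map (σ.comp (MonoidHom.fst Γ Γ)) := hd.symm ▸ Subgroup.mem_top g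
  exact ⟨⟨d, hd⟩, rfl⟩

theorem central_pair (hst : Cfsg.IsStemExtension σ) {p : Γ × Γ} (hp : p ∈ pairsOf σ)
    (h1 : σ p.1 = 1) (x : Γ × Γ) : Commute x p := by
  have h2 : σ p.2 = 1 := by
    have := mem_pairsOf.mp hp
    rw [h1] at this
    rw [← twist_twist (σ p.2), ← this, map_one]
  exact Prod.ext (Subgroup.mem_center_iff.mp (hst.2.1 h1) x.1)
    (Subgroup.mem_center_iff.mp (hst.2.1 h2) x.2)

theorem dPairs_perfect (hst : Cfsg.IsStemExtension σ) : commutator ↥(dPairs σ) = ⊤ := by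
  rw [eq_top_iff]
  intro d _
  have key : dPairs σ ≤ (commutator ↥(dPairs σ)).map (dPairs σ).subtype := by
    refine Subgroup.commutator_le.mpr fun a ha b hb => ?_
    obtain ⟨a', hqa⟩ := dMap_surjective hst.1 (σ a.1)
    obtain ⟨b', hqb⟩ := dMap_surjective hst.1 (σ b.1)
    rw [commutator_central (a' := (a' : Γ × Γ)) (b' := (b' : Γ × Γ))
      (central_pair hst (mul_mem (inv_mem (dPairs_le σ a'.2)) ha)
        (by show σ ((a' : Γ × Γ).1⁻¹ * a.1) = 1
            rw [map_mul, map_inv, ← dMap_apply σ a', hqa, inv_mul_cancel]))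
      (central_pair hst (mul_mem (inv_mem (dPairs_le σ b'.2)) hb)
        (by show σ ((b' : Γ × Γ).1⁻¹ * b.1) = 1
            rw [map_mul, map_inv, ← dMap_apply σ b', hqb, inv_mul_cancel]))]
    exact ⟨⁅a', b'⁆, Subgroup.commutator_mem_commutator (Subgroup.mem_top _) (Subgroup.mem_top _), rfl⟩
  obtain ⟨w, hw, hwd⟩ := key d.2
  rwa [← show w = d from Subtype.ext hwd]

theorem fst_surjective (hst : Cfsg.IsStemExtension σ) :
    Function.Surjective ((MonoidHom.fst Γ Γ).comp (dPairs σ).subtype) := by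
  set K := ((MonoidHom.fst Γ Γ).comp (dPairs σ).subtype).range
  have hK : ∀ a : Γ, ∃ k ∈ K, ∀ x, Commute x (k⁻¹ * a) := fun a => by
    obtain ⟨d, hd⟩ := dMap_surjective hst.1 (σ a)
    refine ⟨d.1.1, ⟨d, rfl⟩, fun x => Subgroup.mem_center_iff.mp (hst.2.1 ?_) x⟩
    rw [MonoidHom.mem_ker, map_mul, map_inv, ← dMap_apply σ d, hd, inv_mul_cancel]
  have hC : commutator Γ ≤ K := by
    rw [commutator_def, Subgroup.commutator_le]
    intro a _ b _
    obtain ⟨k, hk, hka⟩ := hK a
    obtain ⟨l, hl, hlb⟩ := hK b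
    rw [commutator_central hka hlb, commutatorElement_def]
    exact mul_mem (mul_mem (mul_mem hk hl) (inv_mem hk)) (inv_mem hl)
  intro a
  obtain ⟨d, hd⟩ := dMap_surjective hst.1 (σ a)
  have h : (d.1.1 : Γ)⁻¹ * a ∈ K := hC (hst.2.2 (by
    rw [MonoidHom.mem_ker, map_mul, map_inv, ← dMap_apply σ d, hd, inv_mul_cancel]))
  have : a ∈ K := by
    have h' := mul_mem (show d.1.1 ∈ K from ⟨d, rfl⟩) h
    rwa [mul_inv_cancel_left] at h'
  exact this

variable (σ)

/-- The action of the group of order two. -/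
noncomputable def exchHom : Multiplicative (ZMod 2) →* MulAut ↥(dPairs σ) :=
  MonoidHom.mk' (fun e => if e = 1 then 1 else exch σ) (by
    intro a b
    have key : ∀ a b : Multiplicative (ZMod 2),
        (a = 1 → a * b = b) ∧ (b = 1 → a * b = a) ∧ (a ≠ 1 → b ≠ 1 → a * b = 1) := by decide +kernel
    obtain ⟨k1, k2, k3⟩ := key a b
    by_cases ha : a = 1
    · simp [ha]
    · by_cases hb : b = 1
      · simp [hb]
      · simp [ha, hb, k3 ha hb, exch_sq])

/-- The group of order two in `Fi₂₄`. -/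
noncomputable def sHom : Multiplicative (ZMod 2) →* Cfsg.Spor.Fi24 :=
  MonoidHom.mk' (fun e => if e = 1 then 1 else s) (by
    intro a b
    have key : ∀ a b : Multiplicative (ZMod 2),
        (a = 1 → a * b = b) ∧ (b = 1 → a * b = a) ∧ (a ≠ 1 → b ≠ 1 → a * b = 1) := by decide +kernel
    obtain ⟨k1, k2, k3⟩ := key a b
    by_cases ha : a = 1
    · simp [ha]
    · by_cases hb : b = 1
      · simp [hb]
      · simp [ha, hb, k3 ha hb, s_sq])

theorem tau_ne : tau ≠ 1 := by decide +kernel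

theorem sHom_tau : sHom tau = s := by
  show (if tau = 1 then (1 : Cfsg.Spor.Fi24) else s) = s
  exact if_neg tau_ne

theorem exchHom_tau : exchHom σ tau = exch σ := by
  show (if tau = 1 then (1 : MulAut ↥(dPairs σ)) else exch σ) = exch σ
  exact if_neg tau_ne

theorem sgn_sHom (e : Multiplicative (ZMod 2)) : sgn (sHom e) = e := by
  rcases (by decide +kernel : ∀ e : Multiplicative (ZMod 2), e = 1 ∨ e = tau) e with rfl | rfl
  · rw [map_one, map_one]
  · rw [sHom_tau, s, sgn_fl (by norm_num)]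

theorem sgn_coe (x : Cfsg.Spor.Fi24') : sgn (x : Cfsg.Spor.Fi24) = 1 :=
  MonoidHom.mem_ker.mp (commutator_eq ▸ x.2)

/-- The group over `Fi₂₄`. -/
abbrev big : Type := SemidirectProduct ↥(dPairs σ) (Multiplicative (ZMod 2)) (exchHom σ)

/-- Its map. -/
noncomputable def bigMap : big σ →* Cfsg.Spor.Fi24 :=
  SemidirectProduct.lift ((commutator Cfsg.Spor.Fi24).subtype.comp (dMap σ)) sHom (by
    intro e
    refine MonoidHom.ext fun d => ?_
    rcases (by decide +kernel : ∀ e : Multiplicative (ZMod 2), e = 1 ∨ e = tau) e with rfl | rfl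
    · simp
    · show ((σ ((exchHom σ tau) d).1.1 : Cfsg.Spor.Fi24') : Cfsg.Spor.Fi24) =
        sHom tau * (σ d.1.1 : Cfsg.Spor.Fi24') * (sHom tau)⁻¹
      rw [exchHom_tau, sHom_tau, ← coe_twist]
      show ((σ d.1.2 : Cfsg.Spor.Fi24') : Cfsg.Spor.Fi24) = _
      exact congrArg Subtype.val (mem_pairsOf.mp (swap_mem (dPairs_le σ d.2))))

theorem sgn_bigMap (x : big σ) : sgn (bigMap σ x) = x.right := by
  obtain ⟨d, e⟩ := x
  rw [SemidirectProduct.mk_eq_inl_mul_inr, map_mul, bigMap, SemidirectProduct.lift_inl,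
    SemidirectProduct.lift_inr, map_mul, sgn_sHom]
  show sgn ((dMap σ d : Cfsg.Spor.Fi24') : Cfsg.Spor.Fi24) * e = _
  rw [sgn_coe, one_mul]
  simp

theorem eq_inl {x : big σ} (h : sgn (bigMap σ x) = 1) : x = SemidirectProduct.inl x.left := by
  rw [sgn_bigMap] at h
  exact SemidirectProduct.ext rfl (by rw [h]; rfl)

theorem bigMap_inl (d : ↥(dPairs σ)) :
    bigMap σ (SemidirectProduct.inl d) = ((dMap σ d : Cfsg.Spor.Fi24') : Cfsg.Spor.Fi24) :=
  SemidirectProduct.lift_inl _ _ _ _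

variable {σ}

/-- The group over `Fi₂₄` attached to a stem extension. -/
noncomputable def overOf (hst : Cfsg.IsStemExtension σ) : Over (big σ) where
  π := bigMap σ
  surj g := by
    have key : ∀ g : Cfsg.Spor.Fi24, sgn g = 1 → ∃ x, bigMap σ x = g := by
      intro g hg
      obtain ⟨d, hd⟩ := dMap_surjective hst.1 ⟨g, commutator_eq.symm ▸ hg⟩
      exact ⟨SemidirectProduct.inl d, by rw [bigMap_inl, hd]⟩
    rcases (by decide +kernel : ∀ e : Multiplicative (ZMod 2), e = 1 ∨ e = tau) (sgn g) with h | h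
    · exact key g h
    · obtain ⟨x, hx⟩ := key (g * s) (by rw [map_mul, h, s, sgn_fl (by norm_num), tau_sq])
      refine ⟨x * SemidirectProduct.inr tau, ?_⟩
      rw [map_mul, hx, bigMap, SemidirectProduct.lift_inr, sHom_tau, mul_assoc, s_sq, mul_one]
  cen z hz x hx := by
    have hz' : z = SemidirectProduct.inl z.left := eq_inl σ (by rw [MonoidHom.mem_ker.mp hz, map_one])
    rw [eq_inl σ hx, hz']
    refine Commute.map ?_ _
    rw [MonoidHom.mem_ker, hz', bigMap_inl, OneMemClass.coe_eq_one] at hz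
    exact Subtype.ext (central_pair hst (dPairs_le σ z.left.2) hz _)
  perf H hH x hx := by
    have key : commutator ↥(dPairs σ) ≤ H.comap SemidirectProduct.inl := by
      rw [commutator_def, Subgroup.commutator_le]
      intro a _ b _
      rw [Subgroup.mem_comap, map_commutatorElement, commutatorElement_def]
      exact hH _ _ (by rw [bigMap_inl, sgn_coe]) (by rw [bigMap_inl, sgn_coe])
    rw [eq_inl σ hx]
    exact key ((dPairs_perfect hst).symm ▸ Subgroup.mem_top _)
  t := SemidirectProduct.inr tau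
  t_map := by rw [bigMap, SemidirectProduct.lift_inr, sHom_tau]
  t_sq := by rw [← map_mul, tau_sq, map_one]

end

theorem frame0_ext {X : Type*} [Group X] {f g : G0 →* X}
    (h : ∀ l < 12, f (fl Lg0 l) = g (fl Lg0 l)) : f = g := by
  refine MonoidHom.eq_of_eqOn_dense frame0.gen ?_
  intro x hx
  obtain ⟨l, hl, rfl⟩ := List.getElem_of_mem hx
  rw [← List.getD_eq_getElem Lg0 1 hl]
  exact h l (frame0.len ▸ hl)

/-- A group over `Fi₂₄` is an image of the twelve letters without the long relator. -/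
theorem Over.image {X : Type} [Group X] [Finite X] (O : Over X) :
    ∃ h : G0 →* X, Function.Surjective h := by
  obtain ⟨L, -, hπ, -, hL⟩ := O.lift_all
  let h : G0 →* X := pres0.hom pres0_ok (L := L) (fun w hw => hL w (rels0_eq ▸ hw))
  have hfl : ∀ l < 12, h (fl Lg0 l) = fl L l := fun l hl => by
    obtain ⟨x, rfl⟩ := hix l hl
    exact pres0.hom_fl pres0_ok _ x
  have hc : O.π.comp h = π0 :=
    frame0_ext fun l hl => by rw [MonoidHom.comp_apply, hfl l hl, hπ l hl, π0_fl hl]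
  have hdec : ∀ x, ∃ u, (h u)⁻¹ * x ∈ O.π.ker := fun x => by
    obtain ⟨u, hu⟩ := π0_surjective (O.π x)
    refine ⟨u, ?_⟩
    rw [MonoidHom.mem_ker, map_mul, map_inv, ← MonoidHom.comp_apply, hc, hu, inv_mul_cancel]
  have heven : ∀ x, sgn (O.π x) = 1 → x ∈ h.range := by
    refine O.perf h.range fun x y hx hy => ?_
    obtain ⟨u, hu⟩ := hdec x
    obtain ⟨v, hv⟩ := hdec y
    have cy : Commute y ((h u)⁻¹ * x) := O.cen _ hu y hy
    have hhu : sgn (O.π (h u)) = 1 := by
      have := O.ker_even hu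
      rwa [map_mul, map_mul, map_inv, map_inv, hx, mul_one, inv_eq_one] at this
    have cu : Commute (h u) ((h v)⁻¹ * y) := O.cen _ hv _ hhu
    have e : x * y * x⁻¹ * y⁻¹ = h u * h v * (h u)⁻¹ * (h v)⁻¹ := by
      calc x * y * x⁻¹ * y⁻¹
          = h u * (((h u)⁻¹ * x) * y) * ((h u)⁻¹ * x)⁻¹ * (h u)⁻¹ * y⁻¹ := by group
        _ = h u * (y * ((h u)⁻¹ * x)) * ((h u)⁻¹ * x)⁻¹ * (h u)⁻¹ * y⁻¹ := by rw [cy.eq]
        _ = h u * h v * (((h v)⁻¹ * y) * (h u)⁻¹) * y⁻¹ := by group
        _ = h u * h v * ((h u)⁻¹ * ((h v)⁻¹ * y)) * y⁻¹ := by rw [cu.inv_left.eq]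
        _ = _ := by group
    rw [e, ← map_inv, ← map_inv, ← map_mul, ← map_mul, ← map_mul]
    exact ⟨_, rfl⟩
  refine ⟨h, fun x => ?_⟩
  obtain ⟨u, hu⟩ := hdec x
  have := mul_mem (show h u ∈ h.range from ⟨u, rfl⟩) (heven _ (O.ker_even hu))
  rwa [mul_inv_cancel_left] at this

theorem upper (Γ : Type) [Group Γ] [Finite Γ] (σ : Γ →* Cfsg.Spor.Fi24')
    (hst : Cfsg.IsStemExtension σ) :
    ∃ π : Multiplicative (ZMod 3) →* σ.ker, Function.Surjective π := by
  haveI := card_le.1
  haveI := finite_G0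
  haveI : Finite (big σ) := Finite.of_equiv _ SemidirectProduct.equivProd.symm
  obtain ⟨h, hh⟩ := (overOf hst).image
  have hX : Nat.card (big σ) ∣ 3 * 2510411418381323442585600 :=
    card_G0 ▸ Subgroup.card_dvd_of_surjective h hh
  rw [SemidirectProduct.card, Nat.card_eq_fintype_card (α := Multiplicative (ZMod 2)),
    Fintype.card_multiplicative, ZMod.card,
    ← (dMap σ).ker.card_mul_index, Subgroup.index_ker,
    MonoidHom.range_eq_top.mpr (dMap_surjective hst.1), Subgroup.card_top, card_Fi24'] at hX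
  have h3 : Nat.card (dMap σ).ker ∣ 3 := by
    rw [mul_assoc] at hX
    exact Nat.dvd_of_mul_dvd_mul_right (k := 2510411418381323442585600) (by norm_num) (by
      simpa using hX)
  let r : (dMap σ).ker →* σ.ker :=
    (((MonoidHom.fst Γ Γ).comp (dPairs σ).subtype).comp (dMap σ).ker.subtype).codRestrict σ.ker
      fun d => d.2
  have hr : Function.Surjective r := fun k => by
    obtain ⟨d, hd⟩ := fst_surjective hst k.1
    refine ⟨⟨d, ?_⟩, Subtype.ext hd⟩
    show σ d.1.1 = 1
    exact (congrArg σ hd).trans k.2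
  have hk : Nat.card σ.ker ∣ 3 := (Subgroup.card_dvd_of_surjective r hr).trans h3
  haveI : Fact (Nat.Prime 3) := ⟨Nat.prime_three⟩
  rcases (Nat.dvd_prime Nat.prime_three).mp hk with e | e
  · haveI : Subsingleton σ.ker := (Nat.card_eq_one_iff_unique.mp e).1
    exact ⟨1, fun k => ⟨1, Subsingleton.elim _ _⟩⟩
  · let eq3 : Multiplicative (ZMod 3) ≃* σ.ker := mulEquivOfPrimeCardEq (p := 3) (by
      rw [Nat.card_eq_fintype_card, Fintype.card_multiplicative, ZMod.card]) e
    exact ⟨eq3.toMonoidHom, eq3.surjective⟩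

end CfsgLib.Coset.Fi24.Schur
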